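import Cfsg.Agent.Lib.SP.Defs

/-! S5260: `SL₂(K)` is generated by elementary matrices, as an induction principle. -/

set_option autoImplicit false

namespace Cfsg.Agent.SP

theorem sl2_gen {K : Type*} [Field K] {P : K → K → K → K → Prop}
    (mul : ∀ a b c d a' b' c' d', P a b c d → P a' b' c' d' →
      P (a * a' + b * c') (a * b' + b * d') (c * a' + d * c') (c * b' + d * d'))
    (u : ∀ s, P 1 s 0 1) (l : ∀ s, P 1 0 s 1) (a b c d : K) (h : a * d - b * c = 1) :
    P a b c d := by
  have key : ∀ a b c d : K, a * d - b * c = 1 → c ≠ 0 → P a b c d := fun a b c d h hc => by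
    convert mul _ _ _ _ _ _ _ _ (mul _ _ _ _ _ _ _ _ (u ((a - 1) / c)) (l c)) (u ((d - 1) / c))
      using 1 <;> field_simp
    · ring
    · linear_combination -h
    · ring
    · ring
  by_cases hc : c = 0
  · have ha : a ≠ 0 := by rintro rfl; simp [hc] at h
    convert mul _ _ _ _ _ _ _ _ (l (-1)) (key a b (a + c) (b + d) (by linear_combination h)
      (by simpa [hc] using ha)) using 1 <;> ring
  · exact key a b c d h hc

end Cfsg.Agent.SP
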