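import Cfsg.Agent.Lib.SP.Bas

/-! S5260, row SP-OEss (notes/SP.md). -/

set_option autoImplicit false
set_option linter.unusedSectionVars false
set_option linter.unusedVariables false

namespace Cfsg.Agent.SP

open Cfsg Cfsg.FusionSystem Cfsg.Agent.H7
open Cfsg.Agent.H9 (U4)

theorem abstract' {E : Type*} [Group E] [Finite E] {p : ℕ} [Fact p.Prime] (hE : IsPGroup p E)
    {I T M G : Subgroup (MulAut E)} (h : H9.SPEData p I T M G) {Z A : Subgroup E}
    (hA : H9.AInv G A) (hAZ : A ≤ Z) (hA1 : A ≠ ⊥) (hTZ : ∀ t ∈ T, ∀ z ∈ Z, t z = z)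
    (hTE : ∀ t ∈ T, ∀ x, x⁻¹ * t x ∈ Z) 
    (hsurj : ∀ x ∉ Z, ∀ z ∈ Z, z ≠ 1 → ∃ t ∈ T, t ∉ I ∧ x⁻¹ * t x = z) : False := by
  have hTG : T ≤ G := h.sylow.le
  obtain ⟨H, ⟨hTH, hHG, hHM⟩, hmin⟩ := exists_min_card
    (𝓒 := {H : Subgroup (MulAut E) | T ≤ H ∧ H ≤ G ∧ ¬ H ≤ M})
    ⟨G, hTG, le_rfl, fun hle => by
      obtain ⟨g, hg, hgM⟩ := h.exists_not_mem
      exact hgM (hle hg)⟩
  obtain ⟨g, hgH, hgM⟩ := SetLike.not_le_iff_exists.1 hHM
  have hgG := hHG hgH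
  by_cases hZ : ∀ z ∈ Z, g z ∈ Z
  · have hinv : H9.AInv (Subgroup.zpowers g) Z := H9.AInv.zpowers hZ
    let N : Subgroup (MulAut E) :=
      { carrier := {α | (∀ z ∈ Z, α z = z) ∧ ∀ x, x⁻¹ * α x ∈ Z}
        one_mem' := ⟨fun _ _ => rfl, fun x => by simp⟩
        mul_mem' := by
          rintro α β ⟨h1, h2⟩ ⟨h3, h4⟩
          refine ⟨fun z hz => by rw [MulAut.mul_apply, h3 z hz, h1 z hz], fun x => ?_⟩
          simpa [mul_assoc] using Z.mul_mem (h4 x) (h2 (β x))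
        inv_mem' := by
          rintro α ⟨h1, h2⟩
          refine ⟨fun z hz => ?_, fun x => ?_⟩
          · conv_lhs => rw [← h1 z hz]
            simp
          · simpa using Z.inv_mem (h2 (α⁻¹ x)) }
    have hN : IsPGroup p N := H9.isPGroup_of_chain2 hE (M := Z)
      (fun α hα z hz => by rw [hα.1 z hz]; exact hz) (fun α hα x _ => hα.2 x)
      fun α hα => H9.TrivOn.of_fixed hα.1 _
    have hle := h.sylow.max (N ⊓ G) (hN.to_le inf_le_left)
      (le_inf (fun t ht => ⟨hTZ t ht, hTE t ht⟩) hTG) inf_le_right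
    obtain ⟨t, ht, htI⟩ := h.exists_not_mem_I
    refine hgM (h.mem_of_conj_mem ht htI hgG (h.le_M (hle ⟨⟨fun z hz => ?_, fun x => ?_⟩,
      G.mul_mem (G.mul_mem hgG (hTG ht)) (G.inv_mem hgG)⟩)))
    · rw [MulAut.mul_apply, MulAut.mul_apply, hTZ t ht _ (hinv _ (Subgroup.inv_mem _
        (Subgroup.mem_zpowers g)) z hz)]
      simp
    · simpa using hZ _ (hTE t ht (g⁻¹ x))
  · push Not at hZ
    obtain ⟨z, hz, hgz⟩ := hZ
    let D : Subgroup (MulAut E) := H9.stab H (Subgroup.closure ∅) A (hA.mono hHG) ⊓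
      { carrier := {α | α ∈ G ∧ z⁻¹ * α z ∈ A}
        one_mem' := ⟨G.one_mem, by simp⟩
        mul_mem' := by
          rintro α β ⟨h1, h2⟩ ⟨h3, h4⟩
          refine ⟨G.mul_mem h1 h3, ?_⟩
          simpa [mul_assoc] using A.mul_mem h2 (hA α h1 _ h4)
        inv_mem' := by
          rintro α ⟨h1, h2⟩
          refine ⟨G.inv_mem h1, ?_⟩
          simpa using A.inv_mem (hA _ (G.inv_mem h1) _ h2) }
    have hD : ∀ α, α ∈ D ↔ α ∈ H ∧ z⁻¹ * α z ∈ A := fun α =>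
      ⟨fun h => ⟨h.1.1, h.2.2⟩, fun h => ⟨⟨h.1, fun x hx => by
        rw [Subgroup.closure_empty, Subgroup.mem_bot] at hx
        simp [hx]⟩, hHG h.1, h.2⟩⟩
    have hDH : D ≤ H := fun α hα => ((hD α).1 hα).1
    have hTD : T ≤ D := fun t ht => (hD t).2 ⟨hTH ht, by simp [hTZ t ht z hz]⟩
    by_cases hDM : D ≤ M
    · obtain ⟨⟨a, ha⟩, ha1⟩ := (Subgroup.ne_bot_iff_exists_ne_one).1 hA1
      obtain ⟨t, ht, htI, e⟩ := hsurj _ hgz a (hAZ ha) fun e => ha1 (Subtype.ext e)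
      refine hgM (M.inv_mem_iff.1 (h.mem_of_conj_mem ht htI (G.inv_mem hgG) (hDM ((hD _).2
        ⟨H.mul_mem (H.mul_mem (H.inv_mem hgH) (hTH ht)) (H.inv_mem (H.inv_mem hgH)), ?_⟩))))
      have := hA _ (G.inv_mem hgG) a ha
      rw [← e] at this
      simpa using this
    · have := Subgroup.eq_of_le_of_card_ge hDH (hmin D ⟨hTD, hDH.trans hHG, hDM⟩)
      have h1 := ((hD g).1 (this ▸ hgH)).2
      exact hgz (by simpa using Z.mul_mem hz (hAZ h1))

variable {K : Type*} [Field K] [Finite K] {p : ℕ} [Fact p.Prime] [CharP K p]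
  {F : FusionSystem (⊤ : Subgroup (U4 K))}

theorem two_ne (hp : p ≠ 2) : (2 : K) ≠ 0 := fun h =>
  hp ((Nat.prime_dvd_prime_iff_eq Fact.out Nat.prime_two).1
    ((CharP.cast_eq_zero_iff K p 2).1 (by exact_mod_cast h)))

theorem comm_sX {a : U4 K} (ha : a ∈ sX K) (x : U4 K) : x * a = a * x := by
  simp [comm_iff, ha.1, ha.2.1, ha.2.2]

theorem mem_sX_of_comm (h2 : (2 : K) ≠ 0) {a b : U4 K} (ha : a.i ≠ 0) (hb : b.i = 0)
    (h : a * b = b * a) : b ∈ sX K := by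
  obtain ⟨h1, h3⟩ := comm_iff.1 h
  have hz : b.z = 0 := by simpa [hb, ha] using h3
  exact ⟨by simpa [hb, ha, hz, h2] using h1, hz, hb⟩

theorem ess_odd (hp : p ≠ 2) (hF : F.IsSaturated p) {W : Subgroup (U4 K)} (hW : F.IsNormal W)
    (hW1 : W ≠ ⊥) (hWX : W ≤ sX K) {E : Subgroup (U4 K)} (hE : F.IsEssential p E) :
    E = sA K ∨ ∃ k : K, E = sQ k := by
  have h2 := two_ne (K := K) hp
  have hS := isPGroup_top (K := K) p
  have hX : sX K ≤ E := fun a ha => mem_of_comm hE trivial fun x _ => comm_sX ha x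
  by_cases hA : E ≤ sA K
  · exact .inl (le_antisymm hA fun a ha => mem_of_comm hE trivial fun x hx => by
      simp [comm_iff, mem_sA.1 ha, mem_sA.1 (hA hx)])
  obtain ⟨a, ha, hai⟩ := SetLike.not_le_iff_exists.1 hA
  replace hai : a.i ≠ 0 := hai
  have cZ : ∀ g ∈ sZ K, ∀ x, x⁻¹ * (g * x * g⁻¹) ∈ sX K := fun g hg x => by
    rw [inv_mul_conj]; simp [mem_sX, hg.1, hg.2]
  have nZ : ∀ g ∈ sZ K, g ∈ Subgroup.normalizer (E : Set (U4 K)) := fun g hg =>
    H8.le_normalizer_of_conj_mem (B := sZ K) (fun s hs x hx => by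
      simpa using E.mul_mem hx (hX (cZ s hs x))) hg
  by_cases hB : ∀ b ∈ E, b.i = 0 → b ∈ sX K
  · exfalso
    obtain ⟨M, hM⟩ := H9.exists_essCtx hS hF hE
    refine abstract' hM.isPGroup hM.data (Z := (sX K).subgroupOf E) (hM.aInv hW.stronglyClosed)
      (Subgroup.comap_mono hWX) (fun hb => hW1 ((Subgroup.subgroupOf_eq_bot.1 hb).eq_bot_of_le
        (hWX.trans hX))) (fun t ht w hw => ?_) (fun t ht x => ?_) fun x hx w hw hw1 => ?_
    · obtain ⟨s, -, e⟩ := mem_autInducedBy_iff.1 ht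
      exact Subtype.ext ((e w).trans (mul_inv_eq_iff_eq_mul.2 (comm_sX hw s)))
    · obtain ⟨s, -, e⟩ := mem_autInducedBy_iff.1 ht
      refine hB _ (x⁻¹ * t x).2 ?_
      show ((x⁻¹ * t x : E) : U4 K).i = 0
      rw [Subgroup.coe_mul, e, Subgroup.coe_inv, inv_mul_conj]
    · have hi : x.1.i ≠ 0 := fun h => hx (hB _ x.2 h)
      have hw' : w.1 ∈ sX K := hw
      have hg : (⟨0, -w.1.x / (2 * x.1.i), 0, 0⟩ : U4 K) ∈ sZ K := ⟨rfl, rfl⟩
      refine ⟨conjAut E (nZ _ hg), conjAut_mem_autInducedBy (Subgroup.mem_top _) _, fun hI => ?_,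
        Subtype.ext ?_⟩
      · have := (hB _ (hM.mem_of_inn trivial _ hI) rfl).1
        exact hw1 (Subtype.ext (U4.ext (by simpa [h2, hi, one_x] using this) hw'.1 hw'.2.1 hw'.2.2))
      · rw [Subgroup.coe_mul, coe_conjAut, Subgroup.coe_inv, inv_mul_conj]
        refine U4.ext ?_ (by simp [hw'.1]) hw'.2.1.symm hw'.2.2.symm
        simp only
        field_simp
        ring
  push Not at hB
  obtain ⟨b, hb, hbi, hbX⟩ := hB
  have iX : ∀ g, F.IsIso E E g → ∀ x ∈ E, x ∈ sX K → g x ∈ sX K := fun g hg x hx hxX => by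
    have hc := (mem_centralizerIn'.1 (hg.isIso_center.mapsTo x
      (mem_centralizerIn'.2 ⟨hx, fun y _ => comm_sX hxX y⟩))).2
    refine mem_sX_of_comm h2 hai ?_ (hc a ha)
    by_contra hi
    exact hbX (mem_sX_of_comm h2 hi hbi (hc b hb).symm)
  have fX : ∀ g : U4 K, ∀ x ∈ E, x ∈ sX K → g * x * g⁻¹ = x := fun g x _ hx =>
    mul_inv_eq_iff_eq_mul.2 (comm_sX hx g)
  have hZ : sZ K ≤ E := fun g hg =>
    mem_of_ch2 hS hE iX trivial (nZ g hg) (fX g) fun x _ => cZ g hg x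
  have := normal_of_sZ_le hZ
  have nE : ∀ g : U4 K, g ∈ Subgroup.normalizer (E : Set (U4 K)) := fun g =>
    Subgroup.le_normalizer_of_normal (Subgroup.mem_top g)
  by_cases hQ : E ≤ sQ (a.z / a.i)
  · refine .inr ⟨_, le_antisymm hQ fun g hg => mem_of_ch2 hS hE iX trivial (nE g) (fX g)
      fun x hx => ?_⟩
    rw [inv_mul_conj]
    exact ⟨by simp only [mem_sQ.1 hg, mem_sQ.1 (hQ hx)]; ring, rfl, rfl⟩
  exfalso
  obtain ⟨c, hc, hcQ⟩ := SetLike.not_le_iff_exists.1 hQ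
  refine (hE.lt hF hS).not_ge fun g _ => mem_of_ch3 hS hE sX_le_sZ iX (fun f hf x hx hxZ => ?_)
    trivial (nE g) (fX g) (fun x _ hx => ?_) fun x _ => by rw [inv_mul_conj]; exact ⟨rfl, rfl⟩
  · have key : ∀ u ∈ E, (f x).i * u.z = u.i * (f x).z := fun u hu => by
      obtain ⟨v, hv, rfl⟩ := hf.surj u hu
      have h1 := E.mul_mem (E.mul_mem hx hv) (E.inv_mem hx)
      have := (iX f hf _ (E.mul_mem (E.inv_mem hv) h1) (cZ x hxZ v)).1
      rw [hf.mor.map_mul (E.inv_mem hv) h1, hf.mor.map_conj hx hv, hf.mor.map_inv hv,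
        inv_mul_conj] at this
      exact sub_eq_zero.1 this
    have hi : (f x).i = 0 := by
      by_contra hi
      refine hcQ (mul_left_cancel₀ hi ?_)
      rw [key c hc]
      field_simp
      linear_combination (-c.i) * key a ha
    exact ⟨by simpa [hi, hai] using key a ha, hi⟩
  · rw [inv_mul_conj]; simp [mem_sX, hx.1, hx.2]

end Cfsg.Agent.SP
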