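import Cfsg.Agent.Lib.SP.OEss
import Cfsg.Agent.Lib.SP.SL2

/-! S5260, row SP-OTor (notes/SP.md). -/

set_option autoImplicit false
set_option linter.unusedSectionVars false
set_option linter.unusedVariables false

namespace Cfsg.Agent.SP

open Cfsg Cfsg.FusionSystem Cfsg.Agent.H7
open Cfsg.Agent.H9 (U4)

variable {K : Type*} [Field K] [Finite K] {p : ℕ} [Fact p.Prime] [CharP K p]
  {F : FusionSystem (⊤ : Subgroup (U4 K))} {k : K}

/-- The additive coordinate on `sQ k`. -/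
def yq (k : K) (u : U4 K) : K := u.y - k * u.i ^ 2 / 2

theorem norm_sQ (g : U4 K) : g ∈ Subgroup.normalizer (sQ k : Set (U4 K)) :=
  have := normal_of_sZ_le (sZ_le_sQ k)
  Subgroup.le_normalizer_of_normal (Subgroup.mem_top g)

theorem form_sQ (h2 : (2 : K) ≠ 0) {g a : U4 K} (hg : g ∈ sQ k) (ha : a ∈ sQ k) :
    a⁻¹ * (g * a * g⁻¹) = ⟨2 * (g.i * yq k a - a.i * yq k g), 0, 0, 0⟩ := by
  rw [inv_mul_conj, mem_sQ.1 hg, mem_sQ.1 ha, yq, yq]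
  ext <;> simp only
  · field_simp; ring
  · ring

theorem iso_sX (h2 : (2 : K) ≠ 0) {f : U4 K → U4 K} (hf : F.IsIso (sQ k) (sQ k) f) {x : U4 K}
    (hx : x ∈ sX K) : f x ∈ sX K := by
  have hQ := sZ_le_sQ k (sX_le_sZ hx)
  have hc := (mem_centralizerIn'.1 (hf.isIso_center.mapsTo x
    (mem_centralizerIn'.2 ⟨hQ, fun y _ => comm_sX hx y⟩))).2
  refine mem_sX_of_comm h2 (a := ⟨0, 0, k, 1⟩) one_ne_zero ?_ (hc _ (mul_one k).symm)
  have := (comm_iff.1 (hc ⟨0, 1, 0, 0⟩ (mul_zero k).symm)).1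
  simpa [h2] using this

theorem exists_mat (h2 : (2 : K) ≠ 0) {f : U4 K → U4 K} (hf : F.IsIso (sQ k) (sQ k) f)
    (hX : ∀ u ∈ sX K, f u = u) : ∃ a b c d : K, a * d - b * c = 1 ∧ ∀ u ∈ sQ k,
      yq k (f u) = a * yq k u + b * u.i ∧ (f u).i = c * yq k u + d * u.i := by
  have key : ∀ g ∈ sQ k, ∀ a ∈ sQ k, (f g).i * yq k (f a) - (f a).i * yq k (f g) =
      g.i * yq k a - a.i * yq k g := fun g hg a ha => by
    have h := hX (a⁻¹ * (g * a * g⁻¹)) (by rw [form_sQ h2 hg ha]; exact ⟨rfl, rfl, rfl⟩)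
    rw [hf.mor.map_mul (inv_mem ha) (mul_mem (mul_mem hg ha) (inv_mem hg)), hf.mor.map_conj hg ha,
      hf.mor.map_inv ha, form_sQ h2 hg ha, form_sQ h2 (hf.mapsTo g hg) (hf.mapsTo a ha)] at h
    exact mul_left_cancel₀ h2 (congrArg U4.x h)
  have hp : (⟨0, 1, 0, 0⟩ : U4 K) ∈ sQ k := (mul_zero k).symm
  have hq : (⟨0, k / 2, k, 1⟩ : U4 K) ∈ sQ k := (mul_one k).symm
  have e1 : yq k ⟨0, 1, 0, 0⟩ = 1 := by simp [yq]
  have e2 : yq k ⟨0, k / 2, k, 1⟩ = 0 := by simp [yq]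
  have h0 := key _ hq _ hp
  rw [e1, e2] at h0
  refine ⟨yq k (f ⟨0, 1, 0, 0⟩), yq k (f ⟨0, k / 2, k, 1⟩), (f ⟨0, 1, 0, 0⟩).i,
    (f ⟨0, k / 2, k, 1⟩).i, by linear_combination h0, fun u hu => ?_⟩
  have h1 := key u hu _ hp
  have h3 := key u hu _ hq
  rw [e1] at h1
  rw [e2] at h3
  constructor
  · linear_combination yq k (f ⟨0, k / 2, k, 1⟩) * h1 - yq k (f ⟨0, 1, 0, 0⟩) * h3 -
      yq k (f u) * h0
  · linear_combination (f ⟨0, k / 2, k, 1⟩).i * h1 - (f ⟨0, 1, 0, 0⟩).i * h3 - (f u).i * h0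

theorem conj_mem_T (h2 : (2 : K) ≠ 0) (hF : F.IsSaturated p) (hE : F.IsEssential p (sQ k))
    {α : MulAut (sQ k)} (hα : α ∈ F.autGroup (sQ k)) (hZ : ∀ u ∈ sZ K, equivFun α u ∈ sZ K)
    {t : MulAut (sQ k)} (ht : t ∈ autInducedBy ⊤ (sQ k)) :
    α * t * α⁻¹ ∈ autInducedBy ⊤ (sQ k) := by
  have hS := isPGroup_top (K := K) p
  have hT := H9.sylowIn_of_isFullyAutomized (hF.isFullyAutomized hS hE.isFullyNormalized)
  have hle : autInducedBy ⊤ (sQ k) ≤ chainStab (sQ k) _ (ch3_monotone (sX_le_sZ (K := K))) := by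
    intro t ht i x hx hC
    obtain ⟨g, -, -, e⟩ := mem_autInducedBy_iff'.1 ht
    rw [e x hx, inv_mul_conj]
    match i, hC with
    | 0, hC => exact Subgroup.mem_bot.2 (by ext <;> simp [hC.1, hC.2.1, hC.2.2, U4.one_def])
    | 1, hC => exact ⟨by simp [hC.1, hC.2], rfl, rfl⟩
    | 2, _ => exact ⟨rfl, rfl⟩
    | _ + 3, _ => trivial
  have inv : ∀ Y : Subgroup (U4 K), (∀ u ∈ sQ k, u ∈ Y → equivFun α u ∈ Y) →
      ∀ β ∈ Subgroup.zpowers α, ∀ x ∈ sQ k, x ∈ Y → equivFun β x ∈ Y := fun Y hY =>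
    H9.aInv_subgroupOf_iff.1 (H9.AInv.zpowers fun z hz => by
      have := hY z z.2 hz
      rwa [equivFun_coe] at this)
  have hn := le_normalizer_chainStab (ch3_monotone (sX_le_sZ (K := K)))
    (B := Subgroup.zpowers α) (fun β hβ i => match i with
      | 0 => fun x hx hC => by
        rw [ch3, Subgroup.mem_bot] at hC ⊢; rw [hC, (isHomOn_equivFun β).map_one]
      | 1 => inv _ (fun u _ => iso_sX h2 ((mem_autGroup_iff le_top).1 hα)) β hβ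
      | 2 => inv _ (fun u _ => hZ u) β hβ
      | _ + 3 => fun _ _ _ => trivial) (Subgroup.mem_zpowers α)
  exact hT.max (_ ⊓ F.autGroup (sQ k)) ((isPGroup_chainStab (hS.to_le le_top) _ (by simp [ch3])
    (n := 3) le_top).to_le inf_le_left) (le_inf hle hT.le) inf_le_right
    ⟨(Subgroup.mem_normalizer_iff.1 hn t).1 (hle ht),
      Subgroup.mul_mem _ (Subgroup.mul_mem _ hα (hT.le ht)) (Subgroup.inv_mem _ hα)⟩

theorem exists_sl2 (h2 : (2 : K) ≠ 0) (hF : F.IsSaturated p) (hE : F.IsEssential p (sQ k))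
    (a b c d : K) (h : a * d - b * c = 1) : ∃ f, F.IsIso (sQ k) (sQ k) f ∧
      (∀ u ∈ sX K, f u = u) ∧ ∀ u ∈ sQ k,
        yq k (f u) = a * yq k u + b * u.i ∧ (f u).i = c * yq k u + d * u.i := by
  have hS := isPGroup_top (K := K) p
  let P : K → K → K → K → Prop := fun a b c d => ∃ f, F.IsIso (sQ k) (sQ k) f ∧
    (∀ u ∈ sX K, f u = u) ∧ ∀ u ∈ sQ k,
      yq k (f u) = a * yq k u + b * u.i ∧ (f u).i = c * yq k u + d * u.i
  have mul : ∀ a b c d a' b' c' d', P a b c d → P a' b' c' d' →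
      P (a * a' + b * c') (a * b' + b * d') (c * a' + d * c') (c * b' + d * d') := by
    rintro a b c d a' b' c' d' ⟨f, hf, f1, f2⟩ ⟨g, hg, g1, g2⟩
    refine ⟨_, hf.comp' hg, fun u hu => by rw [g1 u hu, f1 u hu], fun u hu => ?_⟩
    rw [(f2 _ (hg.mapsTo u hu)).1, (f2 _ (hg.mapsTo u hu)).2, (g2 u hu).1, (g2 u hu).2]
    exact ⟨by ring, by ring⟩
  have up : ∀ s, P 1 s 0 1 := fun s =>
    ⟨_, isIso_conj_of_mem_normalizer F le_top (Subgroup.mem_top ⟨0, 0, -s, 0⟩) (norm_sQ _),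
      fun u hu => mul_inv_eq_iff_eq_mul.2 (comm_sX hu _), fun u hu => by
        simp only [yq, conj_y, conj_i]
        exact ⟨by ring, by ring⟩⟩
  obtain ⟨a0, b0, c0, d0, hd, hc, h0⟩ : ∃ a b c d : K, a * d - b * c = 1 ∧ c ≠ 0 ∧ P a b c d := by
    obtain ⟨M, hM⟩ := H9.exists_essCtx hS hF hE
    obtain ⟨g, hg, hgM⟩ := hM.data.exists_not_mem
    obtain ⟨t, ht, htI⟩ := hM.data.exists_not_mem_I
    have hc := mul_mem (mul_mem hg (hM.data.sylow.le ht)) (inv_mem hg)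
    have hi := (mem_autGroup_iff le_top).1 hc
    have hX : ∀ u ∈ sX K, equivFun (g * t * g⁻¹) u = u := fun u hu => by
      have hQ := sZ_le_sQ k (sX_le_sZ hu)
      obtain ⟨s, -, -, e⟩ := mem_autInducedBy_iff'.1 ht
      rw [equivFun_mul _ _ hQ, equivFun_mul _ _ (equivFun_mem _ hQ), e _ (equivFun_mem _ hQ),
        mul_inv_eq_iff_eq_mul.2 (comm_sX (iso_sX h2 ((mem_autGroup_iff le_top).1 (inv_mem hg)) hu)
          s), equivFun_apply_inv g hQ]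
    obtain ⟨a, b, c, d, h1, h3⟩ := exists_mat h2 hi hX
    refine ⟨a, b, c, d, h1, fun hc0 => hgM (hM.data.mem_of_conj_mem ht htI hg
      (hM.data.mem_of_conj_mem ht htI hc (hM.data.le_M (conj_mem_T h2 hF hE hc
        (fun u hu => ?_) ht)))), _, hi, hX, h3⟩
    have h4 : (equivFun (g * t * g⁻¹) u).i = 0 := by
      rw [(h3 u (sZ_le_sQ k hu)).2, hc0, hu.2]; simp
    exact ⟨by rw [mem_sQ.1 (hi.mapsTo u (sZ_le_sQ k hu)), h4, mul_zero], h4⟩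
  have n1 : P 0 (-c0⁻¹) c0 0 := by
    convert mul _ _ _ _ _ _ _ _ (mul _ _ _ _ _ _ _ _ (up (-a0 / c0)) h0) (up (-d0 / c0)) using 1 <;>
      field_simp
    · ring
    · linear_combination hd
    · ring
    · ring
  refine sl2_gen mul up (fun s => ?_) a b c d h
  convert mul _ _ _ _ _ _ _ _ (mul _ _ _ _ _ _ _ _ n1 (up (-s / c0 ^ 2)))
    (mul _ _ _ _ _ _ _ _ n1 (mul _ _ _ _ _ _ _ _ n1 n1)) using 1 <;> field_simp <;> ring

theorem torus_odd (hp : p ≠ 2) (hF : F.IsSaturated p) {k : K} (hE : F.IsEssential p (sQ k))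
    {l : K} (hl : l ≠ 0) : ∃ f, F.IsIso ⊤ ⊤ f ∧ (∀ u ∈ sX K, f u = u) ∧
      (∀ u ∈ sZ K, (f u).y = l * u.y) ∧ (∀ u, l * (f u).i = u.i) ∧
      ∀ u, (f u).z - k * (f u).i = l ^ 2 * (u.z - k * u.i) := by
  have h2 := two_ne (K := K) hp
  have hS := isPGroup_top (K := K) p
  obtain ⟨h, hh, h1, h3⟩ := exists_sl2 h2 hF hE l 0 0 l⁻¹ (by simp [hl])
  have hZ : ∀ u ∈ sZ K, h u ∈ sZ K := fun u hu => by
    have h4 : (h u).i = 0 := by rw [(h3 u (sZ_le_sQ k hu)).2, hu.2]; simp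
    exact ⟨by rw [mem_sQ.1 (hh.mapsTo u (sZ_le_sQ k hu)), h4, mul_zero], h4⟩
  obtain ⟨M, hM⟩ := H9.exists_essCtx hS hF hE
  obtain ⟨f, hf, e⟩ := hM.exists_ext hh.toMulEquiv_mem_autGroup (R := ⊤) le_rfl
    (fun a _ => norm_sQ a) fun a ha => conj_mem_T h2 hF hE hh.toMulEquiv_mem_autGroup
      (fun u hu => by rw [hh.equivFun_toMulEquiv (sZ_le_sQ k hu)]; exact hZ u hu)
      (conjAut_mem_autInducedBy ha _)
  rw [sup_top_eq] at hf
  replace e : ∀ u ∈ sQ k, f u = h u := fun u hu => e ⟨u, hu⟩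
  have hm : ∀ u v, f (u * v) = f u * f v := fun u v => hf.map_mul trivial trivial
  have hy : ∀ u ∈ sZ K, (f u).y = l * u.y := fun u hu => by
    have := (h3 u (sZ_le_sQ k hu)).1
    rw [yq, yq, (hZ u hu).2, hu.2] at this
    rw [e u (sZ_le_sQ k hu)]
    simpa using this
  have hp : (⟨0, 1, 0, 0⟩ : U4 K) ∈ sZ K := ⟨rfl, rfl⟩
  have hA : ∀ z : K, (f ⟨0, 0, z, 0⟩).i = 0 := fun z => by
    have h4 : f ⟨0, 0, z, 0⟩ * f ⟨0, 1, 0, 0⟩ = f ⟨0, 1, 0, 0⟩ * f ⟨0, 0, z, 0⟩ := by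
      rw [← hm, ← hm]; simp [U4.mul_def]
    have h5 := (comm_iff.1 h4).1
    rw [hy _ hp, e _ (sZ_le_sQ k hp), (hZ _ hp).1, (hZ _ hp).2] at h5
    simpa [h2, hl] using h5
  have hi : ∀ u ∈ sQ k, l * (f u).i = u.i := fun u hu => by
    rw [e u hu, (h3 u hu).2]; field_simp; ring
  have hz : ∀ z : K, (f ⟨0, 0, z, 0⟩).z = l ^ 2 * z := fun z => by
    have hq : (⟨0, 0, k, 1⟩ : U4 K) ∈ sQ k := (mul_one k).symm
    have h4 := hy ((⟨0, 0, k, 1⟩ : U4 K)⁻¹ * (⟨0, 0, z, 0⟩ * ⟨0, 0, k, 1⟩ * (⟨0, 0, z, 0⟩ : U4 K)⁻¹))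
      (by rw [inv_mul_conj]; exact ⟨rfl, rfl⟩)
    rw [hm, hf.map_conj trivial trivial, hf.map_inv trivial, inv_mul_conj, inv_mul_conj, hA] at h4
    have h5 := hi _ hq
    simp only at h4 h5
    linear_combination (-l) * h4 - (f ⟨0, 0, z, 0⟩).z * h5
  have dec : ∀ u : U4 K, ∃ q ∈ sQ k, u = ⟨0, 0, u.z - k * u.i, 0⟩ * q ∧ q.i = u.i := fun u =>
    ⟨⟨u.x, u.y, k * u.i, u.i⟩, rfl, by simp [U4.mul_def], rfl⟩
  refine ⟨f, hf.isIso_top, fun u hu => (e u (sZ_le_sQ k (sX_le_sZ hu))).trans (h1 u hu), hy,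
    fun u => ?_, fun u => ?_⟩
  · obtain ⟨q, hq, e1, e2⟩ := dec u
    rw [e1, hm, mul_i, hA, zero_add, hi q hq, mul_i, zero_add]
  · obtain ⟨q, hq, e1, e2⟩ := dec u
    conv_lhs => rw [e1, hm, mul_i, mul_z, hA, hz, e q hq, mem_sQ.1 (hh.mapsTo q hq)]
    ring

end Cfsg.Agent.SP
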