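import Cfsg.Agent.Lib.SP.ModO
import Cfsg.Agent.Lib.SP.OEss
import Cfsg.Agent.Lib.SP.OTor

/-! S5260, row SP-OFin (notes/SP.md). -/

set_option autoImplicit false
set_option linter.unusedSectionVars false
set_option linter.unusedVariables false

namespace Cfsg.Agent.SP

open Cfsg Cfsg.FusionSystem Cfsg.Agent.H7
open Cfsg.Agent.H9 (U4)

variable {K : Type*} [Field K] [Finite K] {p : ℕ} [Fact p.Prime] [CharP K p]
  {F : FusionSystem (⊤ : Subgroup (U4 K))}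

theorem ofin_two (hp : p ≠ 2) : (2 : K) ≠ 0 := fun h2 =>
  hp ((Nat.prime_dvd_prime_iff_eq Fact.out Nat.prime_two).1
    ((CharP.cast_eq_zero_iff K p 2).1 (by exact_mod_cast h2)))

theorem eq_of_ess_sQ (hp : p ≠ 2) (hF : F.IsSaturated p) {k k' : K}
    (hE : F.IsEssential p (sQ k)) (hE' : F.IsEssential p (sQ k')) : k = k' := by
  obtain ⟨f, f1, -, -, f2, f3⟩ := torus_odd hp hF hE (neg_ne_zero.2 one_ne_zero)
  obtain ⟨g, g1, -, -, g2, g3⟩ := torus_odd hp hF hE' (neg_ne_zero.2 one_ne_zero)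
  obtain ⟨α, hα, e⟩ := (g1.comp' f1).exists_aut
  have h1 : ∀ u : (⊤ : Subgroup (U4 K)), (α u).1.i = u.1.i ∧
      (α u).1.z = u.1.z + 2 * (k' - k) * u.1.i := fun u => by
    rw [← equivFun_coe, e _ u.2]
    exact ⟨by linear_combination f2 u - g2 (f u), by
      linear_combination g3 (f u) + f3 u - k' * g2 (f u) + (2 * k' - k) * f2 u⟩
  have h2 : ∀ (n : ℕ) (u : (⊤ : Subgroup (U4 K))), ((α ^ n) u).1.i = u.1.i ∧
      ((α ^ n) u).1.z = u.1.z + n * (2 * (k' - k)) * u.1.i := fun n u => by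
    induction n with
    | zero => simp
    | succ n ih =>
      rw [pow_succ', MulAut.mul_apply, (h1 _).1, (h1 _).2, ih.1, ih.2]
      exact ⟨rfl, by push_cast; ring⟩
  obtain ⟨m, hm, n, hn⟩ := exists_coprime_pow_pElt (p := p) (isOfFinOrder_of_finite α)
  obtain ⟨s, -, hs⟩ := mem_inn_iff.1 (H9.mem_inn_of_pElt (isPGroup_top p) hF (pow_mem hα m) hn)
  have h3 := (h2 m ⟨⟨0, 0, 0, 1⟩, trivial⟩).2
  rw [hs, conj_z] at h3
  have h4 : (m : K) ≠ 0 := fun e =>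
    (Fact.out : p.Prime).coprime_iff_not_dvd.1 hm.symm ((CharP.cast_eq_zero_iff K p m).1 e)
  symm
  simpa [h4, ofin_two hp, sub_eq_zero] using h3

theorem ofin_false (hp : p ≠ 2) (hF : F.IsSaturated p) {W : Subgroup (U4 K)} (hW : F.IsCentral W)
    (hW1 : W ≠ ⊥) (hWX : W ≤ sX K) (hA : F.IsEssential p (sA K)) {k : K}
    (hQ : F.IsEssential p (sQ k)) : False := by
  let _ := actOf (coA K)
  have := actOf_faithful (coA K)
  have hS := isPGroup_top (K := K) p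
  have hn : ∀ s : U4 K, s ∈ Subgroup.normalizer (sA K : Set (U4 K)) := fun s =>
    mem_normalizer_of_finite fun x hx => (conj_i s x).trans hx
  have hs : ∀ (g : MulAut (sA K)) (v : K × K × K), g • v = ((equivFun g ⟨v.1, v.2.1, v.2.2, 0⟩).x,
      (equivFun g ⟨v.1, v.2.1, v.2.2, 0⟩).y, (equivFun g ⟨v.1, v.2.1, v.2.2, 0⟩).z) := fun g v => by
    rw [equivFun_of_mem g (show _ ∈ sA K from rfl)]
    rfl
  have hc : ∀ (s : U4 K) (v : K × K × K), conjAut (sA K) (hn s) • v =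
      (v.1 + 2 * s.i * v.2.1 + s.i ^ 2 * v.2.2, v.2.1 + s.i * v.2.2, v.2.2) := fun s v => by
    rw [hs, equivFun_conjAut _ (show _ ∈ sA K from rfl), conj_def]
    simp [mul_assoc]
  obtain ⟨M, hM⟩ := H9.exists_essData_of_isFullyAutomized hA
    (hF.isFullyAutomized hS hA.isFullyNormalized)
  obtain ⟨w, hw, hw1⟩ := (Subgroup.nontrivial_iff_exists_ne_one W).1
    ((Subgroup.nontrivial_iff_ne_bot W).2 hW1)
  have ew : (⟨w.x, 0, 0, 0⟩ : U4 K) = w :=
    U4.ext rfl (hWX hw).1.symm (hWX hw).2.1.symm (hWX hw).2.2.symm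
  refine mod_odd hp hM.sylow (fun t : K => conjAut (sA K) (hn ⟨0, 0, 0, t⟩)) (fun t v => hc _ v)
    (fun g => ⟨fun hg => ?_, ?_⟩) ?_ (fun l hl => ?_) (w := w.x) (fun e => hw1 (by rw [← ew, e]; rfl))
    fun g hg => ?_
  · obtain ⟨s, -, _, rfl⟩ := H9.exists_eq_conjAut hg
    exact ⟨s.i, eq_of_smul_eq_smul fun v : K × K × K => by rw [hc, hc]⟩
  · rintro ⟨t, rfl⟩
    exact conjAut_mem_autInducedBy (Subgroup.mem_top _) _
  · obtain ⟨g, hg, hg'⟩ := hM.exists_not_mem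
    obtain ⟨t, ht, ht'⟩ := hM.exists_not_mem_I
    exact ⟨g, hg, t, ht, fun e => hg' (hM.mem_of_conj_mem ht ht' hg (hM.le_M e))⟩
  · obtain ⟨f, f1, f2, f3, f4, f5⟩ := torus_odd hp hF hQ hl
    have h1 : ∀ u ∈ sA K, f u ∈ sA K := fun u hu =>
      (mul_eq_zero.1 ((f4 u).trans hu)).resolve_left hl
    obtain ⟨g, hg, e⟩ := ((f1.mor.mono le_top).isIso_self h1).exists_aut
    refine ⟨g, hg, fun d => ?_, fun c => ?_, fun v => ?_⟩
    · rw [hs, e _ (show _ ∈ sA K from rfl), f2 _ ⟨rfl, rfl, rfl⟩]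
    · rw [hs, e _ (show _ ∈ sA K from rfl), f3 _ ⟨rfl, rfl⟩]
    · have := f5 ⟨v.1, v.2.1, v.2.2, 0⟩
      rw [mem_sA.1 (h1 _ rfl)] at this
      rw [hs, e _ (show _ ∈ sA K from rfl)]
      simpa using this
  · rw [hs, ew, hW.apply_eq (isMor_of_mem_autGroup le_top hg) (hWX hw).2.2 hw, (hWX hw).1,
      (hWX hw).2.1]

theorem con_odd (hp : p ≠ 2) (hF : F.IsSaturated p) {W : Subgroup (U4 K)} (hW : F.IsCentral W)
    (hW1 : W ≠ ⊥) : Con F := by
  have hS := isPGroup_top (K := K) p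
  have hWX : W ≤ sX K := fun w hw => by
    have h : ∀ s : U4 K, s * w * s⁻¹ = w := fun s => hW.apply_eq (isMor_conj F le_top trivial) hw hw
    have h1 : w.z = 0 := by simpa [conj_y] using congrArg U4.y (h ⟨0, 0, 0, 1⟩)
    have h2 : w.i = 0 := by simpa [conj_y] using congrArg U4.y (h ⟨0, 0, 1, 0⟩)
    exact ⟨by simpa [conj_x, h1, ofin_two hp] using congrArg U4.x (h ⟨0, 0, 0, 1⟩), h1, h2⟩
  by_cases h : ∃ E, F.IsEssential p E
  · obtain ⟨E, hE⟩ := h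
    refine ⟨E, H9.isNormal_of_unique_essential hS hF hE fun E' hE' => ?_,
      hE.isCentric.centralizerIn_le⟩
    rcases ess_odd hp hF hW.isNormal hW1 hWX hE with rfl | ⟨k, rfl⟩ <;>
      rcases ess_odd hp hF hW.isNormal hW1 hWX hE' with rfl | ⟨k', rfl⟩
    · rfl
    · exact (ofin_false hp hF hW hW1 hWX hE hE').elim
    · exact (ofin_false hp hF hW hW1 hWX hE' hE).elim
    · rw [eq_of_ess_sQ hp hF hE hE']
  · refine ⟨⊤, hF.isNormal_of_essential hS ?_, le_top⟩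
    rintro Q (rfl | hQ)
    · exact ⟨le_rfl, fun _ _ _ _ => trivial⟩
    · exact (h ⟨Q, hQ⟩).elim

end Cfsg.Agent.SP
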