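import Cfsg.Agent.Lib.SP.Fin2
import Cfsg.Agent.Lib.SP.OFin
import Cfsg.Agent.Lib.H1.QuadLift
import Cfsg.Agent.Lib.H7.Crit
import Cfsg.Agent.Lib.H8.Iso

/-! S5260, row SP-Main (notes/SP.md). -/

set_option autoImplicit false
set_option linter.unusedSectionVars false
set_option linter.unusedVariables false
set_option linter.unusedSimpArgs false

namespace Cfsg.Agent.SP

open Cfsg Cfsg.FusionSystem Cfsg.Agent.H7
open Cfsg.Agent.H9 (U4)

variable {K : Type*} [Field K] [Finite K] {p : ℕ} [Fact p.Prime]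

open Sum H9.U4 in
theorem exists_sylow_sp [CharP K p] : ∃ P : Sylow p (Matrix.symplecticGroup (Fin 2) K),
    (P : Subgroup (Matrix.symplecticGroup (Fin 2) K)) = (toSp K).range := by
  have hU : IsPGroup p (toSp K).range :=
    (isPGroup_U4 p).of_surjective _ (toSp _).rangeRestrict_surjective
  obtain ⟨P, hP⟩ := hU.exists_le_sylow
  refine ⟨P, le_antisymm ?_ hP⟩
  by_contra hne
  obtain ⟨g, hg, hg', hn, -⟩ := H9.exists_mem_normalizer_not_mem P.isPGroup' hP hne
  have key : ∀ a : U4 K, ∃ b : U4 K, mat a * g.1 = g.1 * mat b := fun a => by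
    obtain ⟨b, hb⟩ := H9.conj_mem_of_mem_normalizer' hn (MonoidHom.mem_range.2 ⟨a, rfl⟩)
    exact ⟨b, congrArg Subtype.val (by rw [hb]; group : toSp _ a * g = g * toSp _ b)⟩
  obtain ⟨b₁, k₁⟩ := key ⟨1, 0, 0, 0⟩
  obtain ⟨b₂, k₂⟩ := key ⟨0, 1, 0, 0⟩
  obtain ⟨b₃, k₃⟩ := key ⟨0, 0, 1, 0⟩
  obtain ⟨b₄, k₄⟩ := key ⟨0, 0, 0, 1⟩
  have e1 := congrFun (congrFun k₁ (inl 0)) (inl 0)
  have e2 := congrFun (congrFun k₂ (inl 0)) (inl 0)
  have e3 := congrFun (congrFun k₄ (inl 0)) (inl 0)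
  have e4 := congrFun (congrFun k₃ (inl 1)) (inl 1)
  have e5 := congrFun (congrFun k₂ (inl 1)) (inl 1)
  simp [Matrix.mul_apply, Fintype.sum_sum_type, Fin.sum_univ_two, mat] at e1 e2 e3
  simp [Matrix.mul_apply, Fintype.sum_sum_type, Fin.sum_univ_two, mat, e3] at e4 e5
  obtain ⟨k, hk⟩ := H9.exists_pow_eq_one P.isPGroup' hg
  have := pow_apply e3 e1 e2 e5 e4 (p ^ k)
  rw [← SubmonoidClass.coe_pow, hk] at this
  have one : ∀ x : K, 1 = x ^ p ^ k → x = 1 := fun x hx => by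
    have h := sub_pow_char_pow x 1 (p := p) (n := k)
    rw [← hx, one_pow, sub_self] at h
    exact sub_eq_zero.1 (pow_eq_zero_iff (pow_ne_zero k (Fact.out : p.Prime).ne_zero) |>.1 h)
  exact hg' (mem_range (one _ (by simpa using this.1)) e3 e1 e2 (one _ (by simpa using this.2.2))
    e5 e4)

theorem Con.isRealizable {Ω : Type*} [Group Ω] {S : Subgroup Ω} [Finite S] (hS : IsPGroup p S)
    {F : FusionSystem S} (hF : F.IsSaturated p) (h : Con F) : F.IsRealizable p := by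
  obtain ⟨Q, hQ, hc⟩ := h
  obtain ⟨G, _, ι, h1, h2, h3, -⟩ := Lead.exists_model_of_normal_centric hS hF hQ hc
  exact ⟨G, _, h1, ι, h2, h3⟩

theorem transport {Ω U : Type*} [Group Ω] [Group U] {S : Subgroup Ω} [Finite S] (hS : IsPGroup p S)
    {F : FusionSystem S} (hF : F.IsSaturated p) (e : S ≃* U) :
    ∃ E : FusionSystem (⊤ : Subgroup U), E.IsSaturated p ∧ (E.IsRealizable p → F.IsRealizable p) ∧
      ∀ W, F.IsNormal W → W ≠ ⊥ → ∃ W', E.IsNormal W' ∧ W' ≠ ⊥ ∧
        ∀ y ∈ W', ∃ x : S, (x : Ω) ∈ W ∧ e x = y := by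
  have hk : ∀ x ∈ S, homFun e.toMonoidHom x = 1 ↔ x ∈ (⊥ : Subgroup Ω) := fun x hx => by
    rw [homFun_of_mem _ hx, Subgroup.mem_bot]
    exact ⟨fun h => congrArg Subtype.val (e.map_eq_one_iff.1 h), fun h => by
      subst h; exact map_one _⟩
  obtain ⟨E, hE⟩ := H8.exists_factorSystem F (stronglyClosed_bot F) e.toMonoidHom hk
    (MonoidHom.range_eq_top.2 e.surjective)
  refine ⟨E, H8.factor_isSaturated hF hS (stronglyClosed_bot F) hE,
    GL.isRealizable_of_factor hS hF (isCentral_bot F) hE, fun W hW hW1 =>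
    ⟨_, H8.factor_isNormal_img hF hS (stronglyClosed_bot F) hE hW, fun hb => hW1 ?_, fun y hy => ?_⟩⟩
  · refine eq_bot_iff.2 fun x hx => (hk x (hW.le hx)).1 ?_
    exact Subgroup.mem_bot.1 (hb ▸ mem_img_of_mem _ hx)
  · obtain ⟨x, hx, rfl⟩ := (H8.mem_img_homFun hW.le).1 hy
    exact ⟨⟨x, hW.le hx⟩, hx, (homFun_of_mem e.toMonoidHom (hW.le hx)).symm⟩

variable [CharP K p] {F : FusionSystem (⊤ : Subgroup (U4 K))}

theorem core_comm (hF : F.IsSaturated p) (hc : ¬ Con F) {a : U4 K} (ha : a ∈ F.core) (s : U4 K) :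
    s * a = a * s := by
  by_contra hn
  refine hc ⟨_, isNormal_core F, IsNormal.le_core (hF.isNormal_of_abelian (isPGroup_top p)
    (H1.IsNormal.stronglyClosed_centralizerIn (isNormal_core F)) fun x hx y hy => ?_)⟩
  exact comm_of_comm ⟨s, hn⟩ ((mem_centralizerIn'.1 hx).2 a ha) ((mem_centralizerIn'.1 hy).2 a ha)

theorem isRealizable_of_core (hF : F.IsSaturated p) (hO : F.core ≠ ⊥) : F.IsRealizable p := by
  have hS := isPGroup_top (K := K) p
  by_cases hc : Con F
  · exact hc.isRealizable hS hF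
  have hN := isNormal_core F
  by_cases hp : p = 2
  · subst hp
    have hZ : F.core ≤ sZ K := fun a ha => by
      have h1 := (comm_iff.1 (core_comm hF hc ha ⟨0, 0, 0, 1⟩)).2
      have h2 := (comm_iff.1 (core_comm hF hc ha ⟨0, 0, 1, 0⟩)).2
      exact ⟨by simpa using h1, by simpa using h2.symm⟩
    rcases dich_two hF hc hN hZ with h | h
    · exact isRealizable_two hF hc hN hO h
    · obtain ⟨γ, hγ⟩ := exists_graph K
      obtain ⟨E, hE, hr, hW⟩ := transport hS hF (Subgroup.topEquiv.trans γ)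
      obtain ⟨W, h1, h2, h3⟩ := hW _ hN hO
      refine hr ?_
      by_cases hc' : Con E
      · exact hc'.isRealizable hS hE
      refine isRealizable_two hE hc' h1 h2 fun y hy => ?_
      obtain ⟨x, hx, rfl⟩ := h3 y hy
      exact hγ _ (h hx)
  · exfalso
    obtain ⟨F0, h0⟩ := exists_isKNormSys F (T := ⊤) (le_top (a := F.core)) ⊥ (by
      rw [kNormalizerIn_bot]
      exact (eq_top_iff.2 fun s _ => mem_centralizerIn'.2
        ⟨Subgroup.mem_top s, fun a ha => (core_comm hF hc ha s).symm⟩).symm)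
    have hF0 := h0.isSaturated hF hS
      (hF.isFullyKNormalized_of_fc hS hN.weaklyClosed.isFullyCentralized bot_le)
    obtain ⟨Q, hQ, hQc⟩ := con_odd hp hF0 (h0.bot_isCentral le_rfl le_top) hO
    have hle : Q ≤ F.core := hQ.le_core.trans (hF.isNormal_core_of_isInvariantIn hS
      (H1.isInvariantIn_centralizer hF hS hN h0)).le_core
    refine hc ⟨_, hN, fun s hs => hle (hQc (mem_centralizerIn'.2
      ⟨Subgroup.mem_top s, fun a ha => (core_comm hF hc (hle ha) s).symm⟩))⟩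

omit [CharP K p] in
theorem core_eq_bot {Ω : Type*} [Group Ω] {S : Subgroup Ω} [Finite S] (hS : IsPGroup p S)
    (F : FusionSystem S) (hF : F.IsSaturated p) [Fintype K] [CharP K p]
    (T : Sylow p (Matrix.symplecticGroup (Fin 2) K))
    (e : S ≃* (T : Subgroup (Matrix.symplecticGroup (Fin 2) K))) (hex : F.IsExotic p) :
    F.core = ⊥ := by
  by_contra hO
  obtain ⟨T', hT'⟩ := exists_sylow_sp (K := K) (p := p)
  obtain ⟨E, hE, hr, hW⟩ := transport hS hF (e.trans ((T.equiv T').trans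
    ((MulEquiv.subgroupCongr hT').trans (MonoidHom.ofInjective U4.toSp_injective).symm)))
  obtain ⟨W, h1, h2, -⟩ := hW _ (isNormal_core F) hO
  exact hex.2 (hr (isRealizable_of_core hE fun hb => h2 (le_bot_iff.1 (hb ▸ h1.le_core))))

end Cfsg.Agent.SP
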