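import Cfsg.Agent.Lib.SP.Defs

/-! S5260: basic lemmas (commutation in `U4`, chains). -/

set_option autoImplicit false
set_option linter.unusedSectionVars false
set_option linter.unusedVariables false

namespace Cfsg.Agent.SP

open Cfsg Cfsg.FusionSystem Cfsg.Agent.H7
open Cfsg.Agent.H9 (U4)

section
variable {K : Type*} [Field K]

theorem comm_iff {a b : U4 K} : a * b = b * a ↔
    2 * (a.i * b.y - b.i * a.y) + a.i ^ 2 * b.z - b.i ^ 2 * a.z = 0 ∧ a.i * b.z = b.i * a.z := by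
  rw [← mul_inv_eq_iff_eq_mul, conj_def]
  constructor
  · intro h
    have h1 := congrArg U4.x h
    have h2 := congrArg U4.y h
    simp only at h1 h2
    exact ⟨by linear_combination h1, by linear_combination h2⟩
  · rintro ⟨h1, h2⟩
    ext <;> simp only
    · linear_combination h1
    · linear_combination h2

/-- Centralizers of noncentral elements are abelian. -/
theorem comm_of_comm {a b c : U4 K} (ha : ∃ s, s * a ≠ a * s) (hb : a * b = b * a)
    (hc : a * c = c * a) : b * c = c * b := by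
  rw [comm_iff] at hb hc ⊢
  obtain ⟨h1, h2⟩ := hb
  obtain ⟨h3, h4⟩ := hc
  by_cases hi : a.i = 0
  · have : b.i = 0 ∧ c.i = 0 := by
      by_contra hn
      obtain ⟨s, hs⟩ := ha
      apply hs
      rw [comm_iff, hi]
      rw [hi] at h1 h2 h3 h4
      rcases not_and_or.1 hn with hn | hn
      · have hz : a.z = 0 := (mul_eq_zero.1 (by linear_combination -h2)).resolve_left hn
        have hy : 2 * a.y = 0 := (mul_eq_zero.1 (by
          rw [hz] at h1; linear_combination -h1)).resolve_left hn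
        exact ⟨by rw [hz]; linear_combination s.i * hy, by rw [hz]; ring⟩
      · have hz : a.z = 0 := (mul_eq_zero.1 (by linear_combination -h4)).resolve_left hn
        have hy : 2 * a.y = 0 := (mul_eq_zero.1 (by
          rw [hz] at h3; linear_combination -h3)).resolve_left hn
        exact ⟨by rw [hz]; linear_combination s.i * hy, by rw [hz]; ring⟩
    rw [this.1, this.2]
    exact ⟨by ring, by ring⟩
  · have e : b.i * c.z = c.i * b.z := mul_left_cancel₀ hi (by
      linear_combination b.i * h4 - c.i * h2)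
    refine ⟨mul_left_cancel₀ hi ?_, e⟩
    linear_combination b.i * h3 - c.i * h1 + (b.i ^ 2 - a.i * b.i) * h4 -
      (c.i ^ 2 - a.i * c.i) * h2

theorem inv_mul_conj (g a : U4 K) : a⁻¹ * (g * a * g⁻¹) =
    ⟨2 * (g.i * a.y - a.i * g.y) + g.i ^ 2 * a.z + a.i ^ 2 * g.z - 2 * a.i * g.i * a.z,
      g.i * a.z - a.i * g.z, 0, 0⟩ := by
  ext <;> simp only [U4.mul_def, U4.inv_def] <;> ring

end

variable {Ω : Type*} [Group Ω] {S : Subgroup Ω} [Finite S] {p : ℕ} [Fact p.Prime]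
  {F : FusionSystem S} {E X Y : Subgroup Ω}

/-- The chain `⊥ ≤ X ≤ Y ≤ ⊤`. -/
def ch3 (X Y : Subgroup Ω) : ℕ → Subgroup Ω
  | 0 => ⊥
  | 1 => X
  | 2 => Y
  | _ + 3 => ⊤

theorem ch3_monotone (h : X ≤ Y) : Monotone (ch3 X Y) :=
  monotone_nat_of_le_succ fun n => match n with
    | 0 => bot_le
    | 1 => h
    | _ + 2 => le_top

theorem mem_of_ch3 (hS : IsPGroup p S) (hE : F.IsEssential p E) (hXY : X ≤ Y)
    (hX : ∀ g, F.IsIso E E g → ∀ x ∈ E, x ∈ X → g x ∈ X)
    (hY : ∀ g, F.IsIso E E g → ∀ x ∈ E, x ∈ Y → g x ∈ Y) {a : Ω} (haS : a ∈ S)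
    (hn : a ∈ Subgroup.normalizer (E : Set Ω)) (h1 : ∀ x ∈ E, x ∈ X → a * x * a⁻¹ = x)
    (h2 : ∀ x ∈ E, x ∈ Y → x⁻¹ * (a * x * a⁻¹) ∈ X) (h3 : ∀ x ∈ E, x⁻¹ * (a * x * a⁻¹) ∈ Y) :
    a ∈ E :=
  hE.isCentric.mem_of_chain hS (hE.isRadical hS) (ch3_monotone hXY) (by simp [ch3]) (n := 3) le_top
    (fun g hg i x hx hC => match i, hC with
      | 0, hC => by rw [ch3, Subgroup.mem_bot] at hC ⊢; rw [hC, hg.mor.map_one]
      | 1, hC => hX g hg x hx hC
      | 2, hC => hY g hg x hx hC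
      | _ + 3, _ => trivial) haS hn
    fun i x hx hC => match i, hC with
      | 0, hC => by rw [ch3, Subgroup.mem_bot, h1 x hx hC, inv_mul_cancel]
      | 1, hC => h2 x hx hC
      | 2, _ => h3 x hx
      | _ + 3, _ => trivial

theorem mem_of_ch2 (hS : IsPGroup p S) (hE : F.IsEssential p E)
    (hX : ∀ g, F.IsIso E E g → ∀ x ∈ E, x ∈ X → g x ∈ X) {a : Ω} (haS : a ∈ S)
    (hn : a ∈ Subgroup.normalizer (E : Set Ω)) (h1 : ∀ x ∈ E, x ∈ X → a * x * a⁻¹ = x)
    (h2 : ∀ x ∈ E, x⁻¹ * (a * x * a⁻¹) ∈ X) : a ∈ E :=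
  mem_of_ch3 hS hE le_rfl hX hX haS hn h1 (fun x hx _ => h2 x hx) h2

theorem mem_of_comm (hE : F.IsEssential p E) {a : Ω} (ha : a ∈ S)
    (h : ∀ x ∈ E, x * a = a * x) : a ∈ E :=
  hE.isCentric.centralizerIn_le (mem_centralizerIn'.2 ⟨ha, h⟩)

theorem exists_two_ess (hS : IsPGroup p S) (hF : F.IsSaturated p) (hc : ¬ Con F) :
    ∃ E E', F.IsEssential p E ∧ F.IsEssential p E' ∧ E' ≠ E := by
  obtain ⟨E, hE⟩ : ∃ E, F.IsEssential p E := by
    by_contra hn
    push Not at hn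
    exact hc ⟨S, (hF.isNormal_top_iff hS).2 hn, centralizerIn_le⟩
  by_contra hn
  push Not at hn
  exact hc ⟨E, H9.isNormal_of_unique_essential hS hF hE fun E' h => hn E E' hE h,
    hE.isCentric.centralizerIn_le⟩

end Cfsg.Agent.SP
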