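import Cfsg.Agent.Lib.SP.Ess2
import Cfsg.Agent.Lib.H7.GroupFusion

/-! S5260, row SP-Cov (notes/SP.md). -/

set_option autoImplicit false
set_option linter.unusedSectionVars false
set_option linter.unusedVariables false

namespace Cfsg.Agent.SP

open Cfsg Cfsg.FusionSystem Cfsg.Agent.H7
open Cfsg.Agent.H9 (U4)
open Cfsg.Agent.S5259 (uu UU)

theorem cov_conj_iff {K : Type*} [Field K] {γ : Matrix.SpecialLinearGroup (Fin 3) K}
    {a b c a' b' c' : K} : uu a' b' c' = γ * uu a b c * γ⁻¹ ↔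
      a' * γ.1 1 0 + c' * γ.1 2 0 = 0 ∧ a' * γ.1 1 1 + c' * γ.1 2 1 = γ.1 0 0 * a ∧
      a' * γ.1 1 2 + c' * γ.1 2 2 = γ.1 0 0 * c + γ.1 0 1 * b ∧ b' * γ.1 2 0 = 0 ∧
      b' * γ.1 2 1 = γ.1 1 0 * a ∧ b' * γ.1 2 2 = γ.1 1 0 * c + γ.1 1 1 * b ∧ γ.1 2 0 * a = 0 ∧
      γ.1 2 0 * c + γ.1 2 1 * b = 0 := by
  rw [eq_mul_inv_iff_mul_eq, Matrix.SpecialLinearGroup.ext_iff]
  change (∀ i j, (!![1, a', c'; 0, 1, b'; 0, 0, 1] * γ.1) i j =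
    (γ.1 * !![1, a, c; 0, 1, b; 0, 0, 1]) i j) ↔ _
  simp only [Fin.forall_fin_succ, Matrix.mul_apply, Fin.sum_univ_three]
  simp
  constructor
  · rintro ⟨⟨h1, h2, h3⟩, ⟨h4, h5, h6⟩, h7, h8⟩
    exact ⟨by linear_combination h1, by linear_combination h2, by linear_combination h3, h4,
      by linear_combination h5, by linear_combination h6, h7, h8⟩
  · rintro ⟨h1, h2, h3, h4, h5, h6, h7, h8⟩
    exact ⟨⟨by linear_combination h1, by linear_combination h2, by linear_combination h3⟩, ⟨h4,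
      by linear_combination h5, by linear_combination h6⟩, h7, h8⟩

variable {K : Type*} [Field K] [Finite K] [CharP K 2] {F F0 : FusionSystem (⊤ : Subgroup (U4 K))}
  {e1 e2 : K →+ K} {γ : Matrix.SpecialLinearGroup (Fin 3) K}

theorem cov_det (γ : Matrix.SpecialLinearGroup (Fin 3) K) :
    γ.1 0 0 * γ.1 1 1 * γ.1 2 2 - γ.1 0 0 * γ.1 1 2 * γ.1 2 1 - γ.1 0 1 * γ.1 1 0 * γ.1 2 2 +
      γ.1 0 1 * γ.1 1 2 * γ.1 2 0 + γ.1 0 2 * γ.1 1 0 * γ.1 2 1 - γ.1 0 2 * γ.1 1 1 * γ.1 2 0 = 1 :=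
  (Matrix.det_fin_three γ.1).symm.trans γ.2

theorem cov_mk (M : Matrix (Fin 3) (Fin 3) K) (h : M.det = 1) :
    ∃ γ : Matrix.SpecialLinearGroup (Fin 3) K, γ.1 = M := ⟨⟨M, h⟩, rfl⟩

theorem cov_surj (e1 e2 : K →+ K) (a b c : K) : ∃ u, homFun (piU e1 e2) u = uu a b c :=
  ⟨⟨0, c - e1 b - e2 a, b, a⟩, by rw [homFun_piU]; congr 1; simp only [yt]; ring⟩

/-- `γ` on the image of `Q` lifts to `F0`. -/
def CovL (F0 : FusionSystem (⊤ : Subgroup (U4 K))) (e1 e2 : K →+ K) (Q : Subgroup (U4 K))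
    (γ : Matrix.SpecialLinearGroup (Fin 3) K) : Prop :=
  ∃ f, F0.IsMor Q f ∧ ∀ u ∈ Q, homFun (piU e1 e2) (f u) = γ * homFun (piU e1 e2) u * γ⁻¹

theorem Str2.covA (h : Str2 F e1 e2) (h0 : F.IsKNormSys (sX K) ⊥ F0) (h1 : γ.1 2 0 = 0)
    (h2 : γ.1 2 1 = 0) : CovL F0 e1 e2 (sA K) γ := by
  have hd := cov_det γ
  rw [h1, h2] at hd
  have hm : γ.1 2 2 ≠ 0 := fun e => by simp [e] at hd
  have h3 := h.cube _ hm
  obtain ⟨f, f1, f2, f3⟩ := h.upA (γ.1 0 0 / γ.1 2 2) (γ.1 0 1 / γ.1 2 2) (γ.1 1 0 / γ.1 2 2)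
    (γ.1 1 1 / γ.1 2 2) (by field_simp; linear_combination γ.1 2 2 ^ 2 * hd -
      (γ.1 0 0 * γ.1 1 1 - γ.1 0 1 * γ.1 1 0) * h3)
  refine ⟨f, h0.bot_isMor_of_fixed f1.mor (sX_le_sZ.trans sZ_le_sA) le_rfl le_top f2, fun u hu => ?_⟩
  rw [homFun_piU, homFun_piU, cov_conj_iff, (f3 u hu).1, (f3 u hu).2, mem_sA.1 hu,
    mem_sA.1 (f1.mapsTo u hu), h1, h2]
  simp only [mul_zero, zero_mul, add_zero, zero_add, true_and, and_true]
  constructor <;> field_simp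

theorem Str2.covB (h : Str2 F e1 e2) (h0 : F.IsKNormSys (sX K) ⊥ F0) (h1 : γ.1 1 0 = 0)
    (h2 : γ.1 2 0 = 0) : CovL F0 e1 e2 (sB K) γ := by
  have hd := cov_det γ
  rw [h1, h2] at hd
  have hm : γ.1 0 0 ≠ 0 := fun e => by simp [e] at hd
  have h3 := h.cube _ hm
  obtain ⟨f, f1, f2, f3⟩ := h.upB (γ.1 0 0 ^ 2 * γ.1 1 1) (-γ.1 0 0 ^ 2 * γ.1 1 2)
    (-γ.1 0 0 ^ 2 * γ.1 2 1) (γ.1 0 0 ^ 2 * γ.1 2 2) (by linear_combination γ.1 0 0 ^ 3 * hd + h3)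
  refine ⟨f, h0.bot_isMor_of_fixed f1.mor (sX_le_sZ.trans sZ_le_sB) le_rfl le_top f2, fun u hu => ?_⟩
  rw [homFun_piU, homFun_piU, cov_conj_iff, (f3 u hu).1, (f3 u hu).2, mem_sB.1 hu,
    mem_sB.1 (f1.mapsTo u hu), h1, h2]
  simp only [mul_zero, zero_mul, add_zero, zero_add, true_and, and_true]
  exact ⟨by linear_combination γ.1 0 0 * u.i * hd, by linear_combination γ.1 0 0 * yt e1 e2 u * hd⟩

theorem Str2.covS (h : Str2 F e1 e2) (h0 : F.IsKNormSys (sX K) ⊥ F0) {c : K}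
    (h1 : uu 0 0 c = γ * uu 0 0 1 * γ⁻¹) : CovL F0 e1 e2 ⊤ γ := by
  obtain ⟨-, a1, a2, -, -, a3, -, a4⟩ := cov_conj_iff.1 h1
  have hd := cov_det γ
  simp only [mul_zero, zero_mul, add_zero, zero_add, mul_one] at a1 a2 a3 a4
  have a5 : γ.1 2 1 = 0 := (mul_eq_zero.1 a1).resolve_left fun e => by
    simp [← a2, ← a3, a4, e] at hd
  rw [← a3, a4, a5] at hd
  have m0 : γ.1 0 0 ≠ 0 := fun e => by simp [e] at hd
  have m1 : γ.1 1 1 ≠ 0 := fun e => by simp [e] at hd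
  have m2 : γ.1 2 2 ≠ 0 := fun e => by simp [e] at hd
  have h3 := h.cube _ m1
  have h4 : γ.1 0 0 * γ.1 2 2 = γ.1 1 1 ^ 2 := by
    linear_combination γ.1 1 1 ^ 2 * hd - γ.1 0 0 * γ.1 2 2 * h3
  obtain ⟨f, f1, f2, f3⟩ := h.upS (γ.1 0 0 / γ.1 1 1) (div_ne_zero m0 m1)
  obtain ⟨s, hs⟩ := cov_surj e1 e2 (γ.1 0 1 / γ.1 1 1) (γ.1 1 2 / γ.1 2 2) (γ.1 0 2 / γ.1 2 2)
  refine ⟨fun u => s * f u * s⁻¹, (isMor_conj F0 le_rfl trivial).comp'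
    (h0.bot_isMor_of_fixed f1.mor le_top le_rfl le_rfl f2) fun _ _ => trivial, fun u hu => ?_⟩
  rw [(isHomOn_homFun _).map_conj (Subgroup.mem_top _) (Subgroup.mem_top _), hs, homFun_piU, homFun_piU, S5259.uu_inv,
    S5259.uu_mul, S5259.uu_mul, cov_conj_iff, (f3 u).1, (f3 u).2.1, (f3 u).2.2, ← a3, a4, a5]
  simp only [mul_zero, zero_mul, add_zero, zero_add, true_and, and_true]
  have h5 : γ.1 2 2 = γ.1 1 1 ^ 2 / γ.1 0 0 := by field_simp; linear_combination h4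
  rw [h5]
  refine ⟨?_, ?_, ?_⟩ <;> field_simp <;> ring

theorem Str2.cov_ess (h : Str2 F e1 e2) (h0 : F.IsKNormSys (sX K) ⊥ F0)
    (hU : IsPGroup 2 (UU K)) (hF : (groupFusionSystem (UU K)).IsSaturated 2)
    {E : Subgroup (Matrix.SpecialLinearGroup (Fin 3) K)}
    (hE : E = UU K ∨ (groupFusionSystem (UU K)).IsEssential 2 E) (hγ : ∀ x ∈ E, γ * x * γ⁻¹ ∈ E) :
    ∃ Q, CovL F0 e1 e2 Q γ ∧ ∀ u, homFun (piU e1 e2) u ∈ E → u ∈ Q := by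
  have H := S5259.heis_UU (K := K)
  rcases hE with rfl | hE
  · have : γ * uu 0 0 1 * γ⁻¹ ∈ centralizerIn (UU K) (UU K) := by
      refine mem_centralizerIn'.2 ⟨hγ _ (H.z_mem 1), fun y hy => ?_⟩
      have := (mem_centralizerIn'.1 (H.z_center 1)).2 _
        (inv_conj_mem_of_mem_normalizer (mem_normalizer_of_finite hγ) hy)
      rw [← mul_right_inj γ⁻¹, ← mul_left_inj γ]
      simpa [mul_assoc] using this
    obtain ⟨h1, h2, h3⟩ := H.mem_center.1 this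
    obtain ⟨c, hc⟩ := H.ker _ h1 h2 h3
    exact ⟨⊤, h.covS h0 hc.symm, fun _ _ => trivial⟩
  obtain ⟨_, he, he', hE'⟩ := H.essential hU hF hE
  obtain ⟨a, b, c, rfl⟩ := hE.le he
  have hm : ∀ a' b' c', uu a' b' c' ∈ E ↔ a * b' = a' * b := fun a' b' c' => by
    rw [hE', H.comm_iff ⟨_, _, _, rfl⟩ ⟨_, _, _, rfl⟩]
    exact ⟨fun h => h.2, fun h => ⟨⟨_, _, _, rfl⟩, h⟩⟩
  have key : ∀ a' b' c', a * b' = a' * b → ∃ x y z, a * y = x * b ∧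
      uu x y z = γ * uu a' b' c' * γ⁻¹ := fun a' b' c' e => by
    have := hγ _ ((hm a' b' c').2 e)
    obtain ⟨x, y, z, e'⟩ := hE.le this
    exact ⟨x, y, z, (hm x y z).1 (e' ▸ this), e'.symm⟩
  by_cases ha : a = 0
  · have hb : b ≠ 0 := fun hb => he' (H.mem_center.2 ⟨⟨_, _, _, rfl⟩, ha, hb⟩)
    obtain ⟨_, _, _, -, e⟩ := key 0 0 1 (by simp)
    obtain ⟨_, _, _, -, e'⟩ := key 0 1 0 (by simp [ha])
    refine ⟨sA K, h.covA h0 (by simpa using (cov_conj_iff.1 e).2.2.2.2.2.2.2)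
      (by simpa using (cov_conj_iff.1 e').2.2.2.2.2.2.2), fun u hu => ?_⟩
    rw [homFun_piU, hm, ha, zero_mul] at hu
    exact (mul_eq_zero.1 hu.symm).resolve_right hb
  by_cases hb : b = 0
  · obtain ⟨_, y, _, hy, e⟩ := key 1 0 0 (by simp [hb])
    obtain rfl : y = 0 := by simpa [ha, hb] using hy
    refine ⟨sB K, h.covB h0 (by simpa using (cov_conj_iff.1 e).2.2.2.2.1.symm)
      (by simpa using (cov_conj_iff.1 e).2.2.2.2.2.2.1), fun u hu => ?_⟩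
    rw [homFun_piU, hm, hb, mul_zero] at hu
    exact (mul_eq_zero.1 hu).resolve_left ha
  obtain ⟨x, y, z, hy, e⟩ := key 0 0 1 (by simp)
  have h2 : uu x y z * uu x y z = uu 0 0 0 := by
    rw [e, conj_mul, S5259.uu_mul, CharTwo.add_self_eq_zero 1]
    simp [S5259.uu_zero]
  rw [S5259.uu_mul, CharTwo.add_self_eq_zero z, zero_add] at h2
  have h3 := (S5259.uu_inj h2).2.2
  obtain rfl : y = 0 := by
    have : a * y ^ 2 = 0 := by linear_combination y * hy + b * h3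
    simpa [ha] using this
  obtain rfl : x = 0 := by simpa [hb] using hy
  exact ⟨⊤, h.covS h0 e, fun _ _ => trivial⟩

theorem Str2.cov_down (h : Str2 F e1 e2) (h0 : F.IsKNormSys (sX K) ⊥ F0) (hF0 : F0.IsSaturated 2)
    {Q : Subgroup (U4 K)} (hQ : Q = ⊤ ∨ F0.IsEssential 2 Q) {f : U4 K → U4 K} (hf : F0.IsIso Q Q f) :
    ∃ γ, ∀ u ∈ Q, homFun (piU e1 e2) (f u) = γ * homFun (piU e1 e2) u * γ⁻¹ := by
  have hf' := h0.isSubsystemOf.isIso hf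
  have hX : sX K ≤ Q → ∀ u ∈ sX K, f u = u := fun hle u hu =>
    (h0.bot_isCentral le_rfl le_top).apply_eq hf.mor (hle hu) hu
  rcases hQ with rfl | hQ
  · obtain ⟨s, a, b, ha, hb, h1, h2⟩ := h.dnS f hf'
    have h3 := h1 ⟨1, 0, 0, 0⟩ ⟨rfl, rfl, rfl⟩
    rw [hX le_top _ ⟨rfl, rfl, rfl⟩] at h3
    have h4 := h.cube a ha
    obtain rfl : a = b := by
      linear_combination a * h3 + b * h4
    obtain ⟨γ, hγ⟩ := cov_mk !![a ^ 2, 0, 0; 0, a, 0; 0, 0, 1] (by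
      simpa [Matrix.det_fin_three, pow_succ] using h4)
    refine ⟨(homFun (piU e1 e2) s)⁻¹ * γ, fun u hu => ?_⟩
    rw [mul_inv_rev, inv_inv, ← mul_assoc, mul_assoc _⁻¹, mul_assoc _⁻¹, ← mul_inv_eq_iff_eq_mul,
      eq_inv_mul_iff_mul_eq, ← mul_assoc, ← (isHomOn_homFun _).map_conj (Subgroup.mem_top _) (Subgroup.mem_top _), homFun_piU,
      homFun_piU, cov_conj_iff, (h2 u).1, (h2 u).2.1, (h2 u).2.2]
    simp [hγ]
    exact ⟨by ring, Or.inl (sq a).symm⟩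
  rcases ess_two hF0 hQ with rfl | rfl
  · obtain ⟨a, b, c, d, h1, h2⟩ := h.dnA f hf' (hX (sX_le_sZ.trans sZ_le_sA))
    obtain ⟨γ, hγ⟩ := cov_mk !![a, b, 0; c, d, 0; 0, 0, 1] (by simpa [Matrix.det_fin_three] using h1)
    refine ⟨γ, fun u hu => ?_⟩
    rw [homFun_piU, homFun_piU, cov_conj_iff, (h2 u hu).1, (h2 u hu).2, mem_sA.1 hu,
      mem_sA.1 (hf.mapsTo u hu)]
    simp [hγ]
  · obtain ⟨a, b, c, d, h1, h2⟩ := h.dnB f hf' (hX (sX_le_sZ.trans sZ_le_sB))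
    obtain ⟨γ, hγ⟩ := cov_mk !![1, 0, 0; 0, a, -b; 0, -c, d] (by simpa [Matrix.det_fin_three] using h1)
    refine ⟨γ, fun u hu => ?_⟩
    rw [homFun_piU, homFun_piU, cov_conj_iff, (h2 u hu).1, (h2 u hu).2, mem_sB.1 hu,
      mem_sB.1 (hf.mapsTo u hu)]
    simp [hγ]
    exact ⟨by linear_combination u.i * h1, by linear_combination yt e1 e2 u * h1⟩

theorem Str2.cover {e1 e2 : K →+ K} (h : Str2 F e1 e2) {F0 : FusionSystem (⊤ : Subgroup (U4 K))}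
    (h0 : F.IsKNormSys (sX K) ⊥ F0) (hF0 : F0.IsSaturated 2) :
    GL.Cover F0 (sX K) (piU e1 e2) := by
  refine ⟨fun P f hf _ => hF0.alperin_induction (isPGroup_top 2)
    (M := fun f => ∃ g, ∀ x ∈ P, homFun (piU e1 e2) (f x) = g * homFun (piU e1 e2) x * g⁻¹)
    (fun f g ⟨γ, e⟩ e' => ⟨γ, fun x hx => e' x hx ▸ e x hx⟩) ⟨1, fun x _ => by simp⟩
    (fun f Q g _ ⟨γ, e⟩ hQ hg hm => ?_) hf, fun g P _ hP hg => ?_⟩
  · obtain ⟨γ', e'⟩ := h.cov_down h0 hF0 hQ hg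
    exact ⟨γ' * γ, fun x hx => by rw [Function.comp_apply, e' _ (hm x hx), e x hx]; group⟩
  let _ := Fintype.ofFinite K
  obtain ⟨T, hT⟩ := S5259.sylow_UU (K := K) 2
  have hU : IsPGroup 2 (UU K) := hT ▸ T.2
  have hF : (groupFusionSystem (UU K)).IsSaturated 2 :=
    groupFusionSystem_isSaturated' (hT ▸ sylowIn_sylow T)
  have hi : ∀ x, homFun (piU e1 e2) x ∈ UU K := fun x => ⟨_, _, _, homFun_piU e1 e2 x⟩
  refine hF.alperin_induction hU (P := img P (homFun (piU e1 e2))) (f := fun y => g * y * g⁻¹)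
    (M := fun φ => ∃ f, F0.IsMor P f ∧ ∀ x ∈ P, homFun (piU e1 e2) (f x) = φ (homFun (piU e1 e2) x))
    (fun φ ψ ⟨f, a, e⟩ e' => ⟨f, a, fun x hx => (e x hx).trans (e' _ (mem_img_of_mem _ hx))⟩)
    ⟨id, isMor_id F0 hP, fun _ _ => rfl⟩ (fun φ E ψ _ ⟨f, a, e⟩ hE hψ hm => ?_)
    (groupFusionSystem_isMor.2 ⟨img_le_iff.2 fun x _ => hi x, fun y hy => ?_, g, fun _ _ => rfl⟩)
  · obtain ⟨-, -, γ, e'⟩ := groupFusionSystem_isMor.1 hψ.mor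
    obtain ⟨Q, ⟨f', a', e''⟩, hQ⟩ := h.cov_ess h0 hU hF hE (γ := γ) fun x hx =>
      e' x hx ▸ hψ.mapsTo x hx
    have hE' : ∀ x ∈ P, homFun (piU e1 e2) (f x) ∈ E := fun x hx =>
      e x hx ▸ hm _ (mem_img_of_mem _ hx)
    refine ⟨_, a'.comp' a fun x hx => hQ _ (hE' x hx), fun x hx => ?_⟩
    rw [e'' _ (hQ _ (hE' x hx)), Function.comp_apply, ← e x hx, e' _ (hE' x hx)]
  · obtain ⟨x, hx, rfl⟩ := (H8.mem_img_homFun hP).1 hy
    obtain ⟨s, hs⟩ := hg x hx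
    rw [← hs, ← homFun_coe]
    exact hi s

end Cfsg.Agent.SP
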