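import Cfsg.Agent.Lib.SP.Bas

/-! S5260, row SP-Ess2 (notes/SP.md). -/

set_option autoImplicit false
set_option linter.unusedSectionVars false
set_option linter.unusedVariables false

namespace Cfsg.Agent.SP

open Cfsg Cfsg.FusionSystem Cfsg.Agent.H7
open Cfsg.Agent.H9 (U4)

variable {K : Type*} [Field K] [Finite K] [CharP K 2] {F : FusionSystem (⊤ : Subgroup (U4 K))}

theorem comm_two {a b : U4 K} : a * b = b * a ↔
    a.i ^ 2 * b.z = b.i ^ 2 * a.z ∧ a.i * b.z = b.i * a.z := by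
  rw [comm_iff, CharTwo.two_eq_zero, zero_mul, zero_add, sub_eq_zero]

theorem sq_two {a : U4 K} : a * a = 1 ↔ a.i = 0 ∨ a.z = 0 := by
  have two : (2 : K) = 0 := CharTwo.two_eq_zero
  rw [← mul_eq_zero]
  refine ⟨fun h => ?_, fun h => ?_⟩
  · have := congrArg U4.y h
    rw [mul_y, one_y] at this
    linear_combination this - a.y * two
  · ext <;> simp only [U4.mul_def, U4.one_def]
    · linear_combination (a.x + a.i * a.y) * two + a.i * h
    · linear_combination a.y * two + h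
    · linear_combination a.z * two
    · linear_combination a.i * two

theorem ess_two (hF : F.IsSaturated 2) {E : Subgroup (U4 K)} (hE : F.IsEssential 2 E) :
    E = sA K ∨ E = sB K := by
  have hS := isPGroup_top (K := K) 2
  have cZ : ∀ a ∈ sZ K, ∀ x : U4 K, x * a = a * x := fun a ha x => by
    simp [comm_two, ha.1, ha.2]
  have hZ : sZ K ≤ E := fun a ha => mem_of_comm hE trivial fun x _ => cZ a ha x
  have := normal_of_sZ_le hZ
  have key : ¬ ∀ g, F.IsIso E E g → ∀ x ∈ E, x ∈ sZ K → g x ∈ sZ K := fun h =>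
    (hE.lt hF hS).not_ge fun a _ => mem_of_ch2 hS hE h trivial
      (Subgroup.le_normalizer_of_normal (Subgroup.mem_top a))
      (fun x _ hx => mul_inv_eq_iff_eq_mul.2 (cZ x hx a))
      fun x _ => by rw [inv_mul_conj]; exact ⟨rfl, rfl⟩
  obtain ⟨e, he, heZ⟩ : ∃ e ∈ centralizerIn E E, e ∉ sZ K := by
    by_contra hn
    push Not at hn
    exact key fun g hg x hx hxZ => hn _ (hg.isIso_center.mapsTo x
      (mem_centralizerIn'.2 ⟨hx, fun y _ => cZ x hxZ y⟩))
  have hc := (mem_centralizerIn'.1 he).2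
  by_cases hi : e.i = 0
  · have hz : e.z ≠ 0 := fun h => heZ ⟨h, hi⟩
    have hle : E ≤ sA K := fun x hx => by
      simpa [hi, hz, mem_sA] using (comm_two.1 (hc x hx)).2
    exact .inl (le_antisymm hle fun a ha => mem_of_comm hE trivial fun x hx => by
      simp [comm_two, mem_sA.1 ha, mem_sA.1 (hle hx)])
  by_cases hz : e.z = 0
  · have hle : E ≤ sB K := fun x hx => by
      simpa [hi, hz, mem_sB] using (comm_two.1 (hc x hx)).2
    exact .inr (le_antisymm hle fun a ha => mem_of_comm hE trivial fun x hx => by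
      simp [comm_two, mem_sB.1 ha, mem_sB.1 (hle hx)])
  refine (key fun g hg x hx hxZ => ?_).elim
  have h1 := (comm_two.1 (hc _ (hg.mapsTo x hx))).2
  rcases sq_two.1 (by rw [← hg.mor.map_mul hx hx, sq_two.2 (.inl hxZ.2), hg.mor.map_one] :
    g x * g x = 1) with h | h
  · exact ⟨by simpa [h, hi] using h1, h⟩
  · exact ⟨h, by simpa [h, hz] using h1⟩

theorem ess_of_not_con (hF : F.IsSaturated 2) (hc : ¬ Con F) :
    F.IsEssential 2 (sA K) ∧ F.IsEssential 2 (sB K) := by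
  obtain ⟨E, E', hE, hE', hne⟩ := exists_two_ess (isPGroup_top 2) hF hc
  rcases ess_two hF hE with rfl | rfl <;> rcases ess_two hF hE' with rfl | rfl
  exacts [(hne rfl).elim, ⟨hE, hE'⟩, ⟨hE', hE⟩, (hne rfl).elim]

theorem maps_or {f : U4 K → U4 K} (hf : F.IsIso ⊤ ⊤ f) {P : Subgroup (U4 K)}
    (hP : ∀ a ∈ P, a * a = 1) : (∀ a ∈ P, f a ∈ sA K) ∨ ∀ a ∈ P, f a ∈ sB K := by
  have key : ∀ a ∈ P, (f a).i = 0 ∨ (f a).z = 0 := fun a ha =>
    sq_two.1 (by rw [← hf.mor.map_mul trivial trivial, hP a ha, hf.mor.map_one])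
  by_contra hn
  push Not at hn
  obtain ⟨⟨a, ha, h1⟩, b, hb, h2⟩ := hn
  have h3 := key _ (P.mul_mem ha hb)
  rw [hf.mor.map_mul trivial trivial, mul_i, mul_z, (key a ha).resolve_left h1,
    (key b hb).resolve_right h2, add_zero, zero_add] at h3
  exact h3.elim h1 h2

theorem aut_two (hF : F.IsSaturated 2) {f : U4 K → U4 K} (hf : F.IsIso ⊤ ⊤ f) :
    F.IsIso (sA K) (sA K) f ∧ F.IsIso (sB K) (sB K) f := by
  have nc : f ⟨0, 0, 1, 0⟩ * f ⟨0, 0, 0, 1⟩ ≠ f ⟨0, 0, 0, 1⟩ * f ⟨0, 0, 1, 0⟩ := fun h => by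
    rw [← hf.mor.map_mul trivial trivial, ← hf.mor.map_mul trivial trivial] at h
    simpa using (comm_two.1 (hf.mor.inj trivial trivial h)).2
  rcases maps_or hf (P := sA K) fun a ha => sq_two.2 (.inl ha) with hA | hA <;>
    rcases maps_or hf (P := sB K) fun a ha => sq_two.2 (.inr ha) with hB | hB
  · exact (nc (by simp [comm_two, mem_sA.1 (hA ⟨0, 0, 1, 0⟩ rfl),
      mem_sA.1 (hB ⟨0, 0, 0, 1⟩ rfl)])).elim
  · exact ⟨(hf.mor.mono le_top).isIso_self hA, (hf.mor.mono le_top).isIso_self hB⟩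
  · exfalso
    obtain ⟨m, hm, k, hk⟩ := exists_coprime_pow_pElt (p := 2) (isOfFinOrder_of_finite hf.toMulEquiv)
    obtain ⟨g, -, hg⟩ := mem_inn_iff.1 (H9.mem_inn_of_pElt (isPGroup_top 2) hF
      (pow_mem hf.toMulEquiv_mem_autGroup m) hk)
    obtain ⟨j, rfl⟩ := Nat.coprime_two_right.1 hm
    have : ∀ j : ℕ, ((hf.toMulEquiv ^ (2 * j + 1)) ⟨⟨0, 0, 1, 0⟩, trivial⟩).1 ∈ sB K := fun j => by
      induction j with
      | zero => exact hA _ (mem_sA.2 rfl)
      | succ j ih =>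
        rw [show 2 * (j + 1) + 1 = 2 * j + 1 + 1 + 1 by ring, pow_succ', pow_succ']
        exact hA _ (hB _ ih)
    have h := this j
    rw [hg, mem_sB, conj_z] at h
    exact one_ne_zero h
  · exact (nc (by simp [comm_two, mem_sB.1 (hA ⟨0, 0, 1, 0⟩ rfl),
      mem_sB.1 (hB ⟨0, 0, 0, 1⟩ rfl)])).elim

/-- The graph automorphism. -/
theorem exists_graph (K : Type*) [Field K] [Finite K] [CharP K 2] :
    ∃ γ : U4 K ≃* U4 K, ∀ u ∈ sC K, γ u ∈ sX K := by
  have two : (2 : K) = 0 := CharTwo.two_eq_zero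
  let γ : U4 K →* U4 K := MonoidHom.mk'
    (fun a => ⟨a.y ^ 2 + a.i ^ 2 * a.z ^ 2, a.x + a.i ^ 2 * a.z, a.i ^ 2, a.z⟩) fun a b => by
      ext <;> simp only [U4.mul_def, CharTwo.add_sq, two, zero_mul, add_zero, mul_pow]
      · linear_combination (a.i ^ 2 * b.z ^ 2) * two
      · linear_combination (a.i ^ 2 * b.z) * two
  refine ⟨MulEquiv.ofBijective γ (Finite.injective_iff_bijective.1
    ((injective_iff_map_eq_one γ).2 fun a h => ?_)), fun u hu => ?_⟩
  · have h1 : a.z = 0 := congrArg U4.i h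
    have h2 : a.x + a.i ^ 2 * a.z = 0 := congrArg U4.y h
    have h3 : a.y ^ 2 + a.i ^ 2 * a.z ^ 2 = 0 := congrArg U4.x h
    have h4 : a.i ^ 2 = 0 := congrArg U4.z h
    exact U4.ext (by simpa [h1, one_x] using h2) (by simpa [h1, one_y] using h3) h1
      (by simpa [one_i] using h4)
  · exact ⟨by simp [γ, hu.1, hu.2.1], by simp [γ, hu.2.2], hu.2.1⟩

end Cfsg.Agent.SP
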