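import Cfsg.Agent.Lib.SP.Defs
import Cfsg.Agent.Lib.H2.Gaschutz

/-! S5260, row SP-Lift (notes/SP.md). -/

set_option autoImplicit false
set_option linter.unusedSectionVars false
set_option linter.unusedVariables false

namespace Cfsg.Agent.SP

open Cfsg Cfsg.FusionSystem Cfsg.Agent.H7
open Cfsg.Agent.H9 (U4)
open scoped commutatorElement

theorem lift_hom {S Gb G0 : Type*} [Group S] [Group Gb] [Group G0] [Finite G0] {π : G0 →* Gb}
    (hπ : Function.Surjective π) (hc : π.ker ≤ Subgroup.center G0) {ι φ : S →* G0}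
    (hι : Function.Injective ι) (hcop : (Nat.card π.ker).Coprime ι.range.index) (δ : Gb →* Gb)
    (hφ : ∀ s, δ (π (ι s)) = π (φ s)) : ∃ δ' : G0 →* G0, ∀ g, π (δ' g) = δ (π g) := by
  let P : Subgroup (G0 × G0) :=
    ((δ.comp π).comp (MonoidHom.fst G0 G0)).eqLocus (π.comp (MonoidHom.snd G0 G0))
  let f : P →* G0 := (MonoidHom.fst G0 G0).comp P.subtype
  have hf : Function.Surjective f := fun g => by
    obtain ⟨g', e⟩ := hπ (δ (π g))
    exact ⟨⟨(g, g'), e.symm⟩, rfl⟩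
  have hk : ∀ x : f.ker, x.1.1.2 ∈ π.ker := fun x => by
    have h1 : δ (π x.1.1.1) = π x.1.1.2 := x.1.2
    rw [MonoidHom.mem_ker, ← h1, show x.1.1.1 = 1 from x.2, map_one, map_one]
  have : IsMulCommutative f.ker := ⟨⟨fun x y => Subtype.ext (Subtype.ext (Prod.ext
    ((x * y).2.trans (y * x).2.symm) (Subgroup.mem_center_iff.1 (hc (hk y)) _)))⟩⟩
  let ψ : f.ker →* π.ker :=
    (((MonoidHom.snd G0 G0).comp P.subtype).comp f.ker.subtype).codRestrict _ hk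
  have hψ : Function.Injective ψ := fun x y e =>
    Subtype.ext (Subtype.ext (Prod.ext (x.2.trans y.2.symm) (congrArg Subtype.val e)))
  let c : S →* P := (ι.prod φ).codRestrict P hφ
  obtain ⟨H, hH⟩ := H2.gaschutz_exists f.ker (ι.range.comap f) (by
      rw [Subgroup.index_comap_of_surjective _ hf]
      exact hcop.coprime_dvd_left (Subgroup.card_dvd_of_injective ψ hψ)) c.range
    (eq_bot_iff.2 (by
      rintro _ ⟨⟨s, rfl⟩, hs⟩
      rw [(injective_iff_map_eq_one ι).1 hι s hs, map_one]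
      exact one_mem _))
    (le_antisymm (sup_le (fun x hx => ⟨1, (map_one ι).trans hx.symm⟩)
      (by rintro _ ⟨s, rfl⟩; exact ⟨s, rfl⟩)) (by
      rintro x ⟨s, hs⟩
      rw [← inv_mul_cancel_right x (c s)]
      refine Subgroup.mul_mem_sup ?_ ⟨s, rfl⟩
      rw [MonoidHom.mem_ker, map_mul, map_inv, ← hs]
      exact mul_inv_cancel _))
  have hb : Function.Bijective (f.comp H.subtype) := ⟨(injective_iff_map_eq_one _).2 fun x hx =>
      Subtype.ext (Subgroup.disjoint_def.1 hH.disjoint hx x.2), fun g => by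
    obtain ⟨x, rfl⟩ := hf g
    obtain ⟨⟨k, y⟩, rfl⟩ := hH.2 x
    exact ⟨y, by simp [show f k = 1 from k.2]⟩⟩
  let e := MulEquiv.ofBijective _ hb
  refine ⟨(((MonoidHom.snd G0 G0).comp P.subtype).comp H.subtype).comp e.symm.toMonoidHom,
    fun g => ?_⟩
  obtain ⟨x, rfl⟩ := e.surjective g
  have h1 : δ (π x.1.1.1) = π x.1.1.2 := x.1.2
  simp only [MonoidHom.comp_apply, MulEquiv.coe_toMonoidHom, MulEquiv.symm_apply_apply]
  exact h1.symm

theorem real_aut_iff {Ω G0 : Type*} [Group Ω] [Group G0] {S : Subgroup Ω} {F : FusionSystem S}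
    {ι : S →* G0} (h : F.IsRealizedBy ι) {α : MulAut S} :
    α ∈ F.autGroup S ↔ ∃ g, ∀ s, ι (α s) = g * ι s * g⁻¹ :=
  (mem_autGroup_iff_mem_Hom le_rfl).trans (h.2 S le_rfl _ fun x => (α x).2)

theorem aut_eq_one {Ω : Type*} [Group Ω] {S : Subgroup Ω} [Finite S] {p : ℕ} [Fact p.Prime]
    (hS : IsPGroup p S) {F : FusionSystem S} (hF : F.IsSaturated p) {A : Subgroup Ω}
    (hA : F.IsCentral A)
    (hc : ∀ g ∈ S, (∀ s ∈ S, s⁻¹ * (g * s * g⁻¹) ∈ A) → ∀ s ∈ S, g * s = s * g) {k : MulAut S}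
    (hk : k ∈ F.autGroup S) (h : ∀ s : S, ((s⁻¹ * k s : S) : Ω) ∈ A) : k = 1 := by
  have h1 : ∀ s : S, k (s⁻¹ * k s) = s⁻¹ * k s := fun s => Subtype.ext (by
    rw [← equivFun_coe]
    exact hA.apply_eq (isMor_of_mem_autGroup le_rfl hk) (s⁻¹ * k s).2 (h s))
  have h2 : ∀ (n : ℕ) (s : S), (k ^ n) s = s * (s⁻¹ * k s) ^ n := fun n s => by
    induction n with
    | zero => simp
    | succ n ih => rw [pow_succ', MulAut.mul_apply, ih, map_mul, map_pow, h1, pow_succ', ← mul_assoc,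
        mul_inv_cancel_left]
  obtain ⟨n, hn⟩ := hS.exists_card_eq
  obtain ⟨g, hg, e⟩ := mem_inn_iff.1 (H9.mem_inn_of_pElt hS hF hk (k := n)
    (MulEquiv.ext fun s => by rw [h2, ← hn, pow_card_eq_one', mul_one]; rfl))
  refine MulEquiv.ext fun s => Subtype.ext ?_
  rw [e, hc g hg (fun s hs => e ⟨s, hs⟩ ▸ h ⟨s, hs⟩) s s.2, mul_inv_cancel_right]
  rfl

theorem Ext.exists_lift {Ω Gb G0 : Type*} [Group Ω] [Group Gb] [Group G0] [Finite G0]
    {S : Subgroup Ω} [Finite S] {p : ℕ} [Fact p.Prime] (hS : IsPGroup p S) {F : FusionSystem S}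
    (hF : F.IsSaturated p) {A : Subgroup Ω} (hA : F.IsCentral A) {π0 : S →* Gb} {π : G0 →* Gb}
    {ι : S →* G0} (h : Ext p F A π0 π ι) (δ : Gb ≃* Gb) (ρ : MulAut S)
    (hδ : ∀ s, δ (π0 s) = π0 (ρ s)) (hρ : ∀ α ∈ F.autGroup S, ρ * α * ρ⁻¹ ∈ F.autGroup S)
    (ha : A ≤ ⁅S, S⁆)
    (hb : ∃ η ∈ F.autGroup S, ∀ μ : S →* Ω, (∀ s, μ s ∈ A) → (∀ s, μ (η s) = μ s) → ∀ s, μ s = 1)
    (hc : ∀ g ∈ S, (∀ s ∈ S, s⁻¹ * (g * s * g⁻¹) ∈ A) → ∀ s ∈ S, g * s = s * g) :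
    ∃ δ' : MulAut G0, ∀ s, δ' (ι s) = ι (ρ s) := by
  have hι := h.real.1
  obtain ⟨T, hT⟩ := h.syl
  have hk : ∀ g, π g = 1 → ∃ a : S, (a : Ω) ∈ A ∧ ι a = g := fun g hg => by
    obtain ⟨a, h1, h2⟩ := h.ker.le hg
    exact ⟨a, (h.ker0 a).1 h1, h2⟩
  obtain ⟨d, hd⟩ := lift_hom h.surj h.cen hι (φ := ι.comp ρ.toMonoidHom) (by
    obtain ⟨n, hn⟩ := (T.2.to_le (show π.ker ≤ T from fun g hg => by
      obtain ⟨a, -, rfl⟩ := hk g hg
      exact hT ▸ ⟨a, rfl⟩)).exists_card_eq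
    rw [hn, ← hT]
    exact ((Nat.Prime.coprime_iff_not_dvd Fact.out).2 T.not_dvd_index).pow_left n)
    δ.toMonoidHom fun s => by simp [h.comp, hδ]
  replace hd : ∀ g, π (d g) = δ (π g) := hd
  choose a a1 a2 using fun s : S => hk ((ι (ρ s))⁻¹ * d (ι s)) (by
    rw [map_mul, map_inv, hd, h.comp, h.comp, hδ, inv_mul_cancel])
  have a3 : ∀ s, d (ι s) = ι (ρ s * a s) := fun s => by rw [map_mul, a2, mul_inv_cancel_left]
  have hz : ∀ (b : S), (b : Ω) ∈ A → ∀ g, g * ι b = ι b * g := fun b hb g =>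
    Subgroup.mem_center_iff.1 (h.cen ((h.comp b).trans ((h.ker0 b).2 hb))) g
  have hz' : ∀ (b : S), (b : Ω) ∈ A → ∀ s, s * b = b * s := fun b hb s =>
    hι (by rw [map_mul, map_mul, hz b hb])
  let μ : S →* S := MonoidHom.mk' a fun s t => by
    have := a3 (s * t)
    rw [map_mul, map_mul d, a3, a3, ← map_mul, hι.eq_iff, map_mul, mul_assoc, mul_assoc,
      mul_right_inj, ← mul_assoc, ← hz' _ (a1 s), mul_assoc, mul_right_inj] at this
    exact this.symm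
  have hμ : ∀ s : S, (s : Ω) ∈ A → a s = 1 := fun s hs => by
    have : (⁅S, S⁆ : Subgroup Ω) ≤ μ.ker.map S.subtype := Subgroup.commutator_le.2 fun x hx y hy =>
      ⟨⁅(⟨x, hx⟩ : S), ⟨y, hy⟩⁆, by
        rw [SetLike.mem_coe, MonoidHom.mem_ker, map_commutatorElement, commutatorElement_eq_one_iff_mul_comm]
        exact hz' _ (a1 _) _, rfl⟩
    obtain ⟨t, ht, e⟩ := this (ha hs)
    exact (Subtype.ext e : t = s) ▸ ht
  have hdi : Function.Injective d := (injective_iff_map_eq_one d).2 fun g hg => by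
    obtain ⟨b, hb, rfl⟩ := hk g (δ.injective (by rw [← hd, hg, map_one, map_one]))
    rw [a3, hμ b hb, mul_one, ← map_one ι, hι.eq_iff, map_eq_one_iff _ ρ.injective] at hg
    rw [hg, map_one]
  let D : MulAut G0 := MulEquiv.ofBijective d (Finite.injective_iff_bijective.1 hdi)
  obtain ⟨η, hη, hη'⟩ := hb
  obtain ⟨g, hg⟩ := (real_aut_iff h.real).1 hη
  obtain ⟨g', rfl⟩ := D.surjective g
  replace hg : ∀ s, ι (η s) = d g' * ι s * (d g')⁻¹ := hg
  have e1 : ∀ s, d (g' * ι s * g'⁻¹) = ι (η (ρ s) * a s) := fun s => by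
    rw [map_mul, map_mul, map_inv, a3, map_mul, map_mul, hg, mul_assoc (d g' * _),
      hz _ (a1 s) (d g')⁻¹, mul_assoc, mul_assoc, mul_assoc]
  obtain ⟨f, f1, f2⟩ := Lead.exists_mor_of_conj h.real le_rfl g' fun x hx => by
    obtain ⟨b, -, hb⟩ := hk ((ι (ρ⁻¹ (η (ρ ⟨x, hx⟩))))⁻¹ * (g' * ι ⟨x, hx⟩ * g'⁻¹)) (δ.injective (by
      rw [map_mul π, map_mul δ, ← hd (_ * _), e1, map_inv, map_inv, h.comp, h.comp, hδ, map_mul,
        (h.ker0 _).2 (a1 _)]
      simp))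
    exact ⟨ρ⁻¹ (η (ρ ⟨x, hx⟩)) * b, by rw [map_mul, hb, homFun_of_mem ι hx, mul_inv_cancel_left]⟩
  obtain ⟨α, hα, f3⟩ := f1.isIso_top.exists_aut
  have e2 : ∀ s, ρ (α s) * a (α s) = η (ρ s) * a s := fun s => hι (by
    rw [← a3, ← e1, ← homFun_coe ι (α s), ← equivFun_coe, f3 _ s.2, f2 _ s.2, homFun_coe])
  have hηA : ∀ b : S, (b : Ω) ∈ A → η⁻¹ b = b := fun b hb => Subtype.ext (by
    rw [← equivFun_coe]
    exact hA.apply_eq (isMor_of_mem_autGroup le_rfl (inv_mem hη)) b.2 hb)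
  have e3 := aut_eq_one hS hF hA hc (mul_mem (inv_mem hη) (hρ α hα)) fun s => by
    obtain ⟨s, rfl⟩ := ρ.surjective s
    simp only [MulAut.mul_apply, MulAut.inv_apply_self]
    rw [eq_mul_inv_of_mul_eq (e2 s), map_mul, map_mul, map_inv, MulAut.inv_apply_self, hηA _ (a1 _),
      hηA _ (a1 _), mul_assoc, inv_mul_cancel_left]
    exact mul_mem (a1 _) (inv_mem (a1 _))
  have e4 : ∀ s, ρ (α s) = η (ρ s) := fun s => by
    rw [inv_mul_eq_one] at e3
    simp [e3]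
  have e5 := hη' (S.subtype.comp (μ.comp ρ⁻¹.toMonoidHom)) (fun s => a1 _) fun s => by
    obtain ⟨s, rfl⟩ := ρ.surjective s
    have := e2 s
    rw [e4, mul_right_inj] at this
    change ((a (ρ⁻¹ (η (ρ s))) : S) : Ω) = a (ρ⁻¹ (ρ s))
    rw [← e4, MulAut.inv_apply_self, MulAut.inv_apply_self, this]
  refine ⟨D, fun s => (a3 s).trans ?_⟩
  have : ((a (ρ⁻¹ (ρ s)) : S) : Ω) = 1 := e5 (ρ s)
  rw [MulAut.inv_apply_self] at this
  rw [show a s = 1 from Subtype.ext this, mul_one]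

end Cfsg.Agent.SP
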