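import Cfsg.Agent.Lib.SP.Defs
import Cfsg.Agent.Lib.GL.Main

/-! S5260, row SP-Real (notes/SP.md). -/

set_option autoImplicit false
set_option linter.unusedSectionVars false
set_option linter.unusedVariables false

namespace Cfsg.Agent.SP

open Cfsg Cfsg.FusionSystem Cfsg.Agent.H7
open Cfsg.Agent.H9 (U4)

open Cfsg.Agent.GL in
theorem real_twist {G : Type*} [Group G] [Finite G] {p : ℕ} [Fact p.Prime] (S : Sylow p G)
    {A : Subgroup G} (hA : A ≤ Subgroup.center G) (hAS : A ≤ S)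
    (F : FusionSystem (S : Subgroup G)) (hF : F.IsSaturated p) (hc : F.IsCentral A)
    (h1 : ∀ P f, F.IsMor P f → A ≤ P → ∃ g : G, ∀ u ∈ P, (g * u * g⁻¹)⁻¹ * f u ∈ A)
    (h2 : ∀ (g : G) (P : Subgroup G), A ≤ P → P ≤ S → cj g P ≤ S →
      ∃ f, F.IsMor P f ∧ ∀ u ∈ P, (g * u * g⁻¹)⁻¹ * f u ∈ A) :
    ∃ β : (S : Subgroup G) →* G, F.IsRealizedBy β ∧ β.range = S ∧
      (∀ u : (S : Subgroup G), (u : G)⁻¹ * β u ∈ A) ∧
      ∀ u : (S : Subgroup G), (u : G) ∈ A → β u = u := by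
  have h : TwD p S A F := ⟨hA, hAS, hF, hc, h1, h2⟩
  obtain ⟨f, ⟨-, f1, f2, f3⟩, hf⟩ := h.exists_hom
  have f4 : ∀ u ∈ (S : Subgroup G), ∀ a ∈ A, f.val (u * a) = f.val u := fun u hu a ha => by
    rw [f1 u hu a (hAS ha), f3 a ha, mul_one]
  let β : (S : Subgroup G) →* G := MonoidHom.mk' (fun s => s * (f.val s)⁻¹) fun s t => by
    show (s : G) * t * (f.val (s * t))⁻¹ = s * (f.val s)⁻¹ * (t * (f.val t)⁻¹)
    rw [f1 _ s.2 _ t.2, mul_inv_rev, mul_assoc (s : G) (f.val s)⁻¹, ← h.comm (inv_mem (f2 _ s.2))]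
    group
  have hβ : ∀ (s : G) (hs : s ∈ (S : Subgroup G)), β ⟨s, hs⟩ = s * (f.val s)⁻¹ := fun _ _ => rfl
  refine ⟨β, ⟨(injective_iff_map_eq_one β).2 fun s hs => ?_, fun P hP φ hφ => ⟨fun hm => ?_, ?_⟩⟩, ?_,
    fun u => by rw [hβ _ u.2, inv_mul_cancel_left]; exact inv_mem (f2 _ u.2),
    fun u hu => by rw [hβ _ u.2, f3 _ hu, inv_one, mul_one]⟩
  · have e : (s : G) = f.val s := mul_inv_eq_one.1 hs
    exact Subtype.ext (e.trans (f3 _ (e ▸ f2 _ s.2)))
  · obtain ⟨ψ, a, b, -⟩ := hc.exists_ext (isMor_of_mem_Hom hm)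
    obtain ⟨g, hg⟩ := h1 _ ψ a le_sup_right
    have m0 : Mo F A g (P ⊔ A) (fun u => (g * u * g⁻¹)⁻¹ * ψ u) :=
      ⟨le_sup_right, hg, a.congr fun u _ => by group⟩
    have m1 := h.comp m0 (h.inv (hf g _ le_sup_right m0.le (h.cj_le m0)))
    rw [inv_mul_cancel] at m1
    obtain ⟨z, hz⟩ := h.ker m1
    refine ⟨g * z, fun x => ?_⟩
    have hx : (x : G) ∈ P ⊔ A := Subgroup.mem_sup_left x.2
    have e1 : φ x = g * x * g⁻¹ * ((g * x * g⁻¹)⁻¹ * ψ x) := by
      rw [b x x.2, homFun_coe]; group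
    have hgx : g * x * g⁻¹ ∈ (S : Subgroup G) := h.cj_le m0 (mem_cj_of_mem g hx)
    have e2 := hz x hx
    rw [show g⁻¹ * (g * x * g⁻¹) * g = x by group] at e2
    have ha := hg x hx
    generalize (g * x * g⁻¹)⁻¹ * ψ x = ν at e1 e2 ha
    have e3 : f.val (φ x) = f.val (g * x * g⁻¹) := by rw [e1, f4 _ hgx _ ha]
    have a1 := f2 _ hgx
    have a2 := f2 _ (hP x.2)
    rw [hβ, hβ, e3, e1]
    generalize f.val (g * x * g⁻¹) = c1 at e2 a1
    generalize f.val x = c2 at e2 a2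
    calc g * x * g⁻¹ * ν * c1⁻¹ = g * (x * (ν * (c1 * c2⁻¹)⁻¹)) * c2⁻¹ * g⁻¹ := by
          have hm : ν * (c1 * c2⁻¹)⁻¹ * c2⁻¹ = ν * c1⁻¹ := by
            rw [mul_inv_rev, inv_inv, ← h.comm a2]; group
          rw [mul_assoc _ ν, ← hm, mul_assoc _ g⁻¹, h.comm (hm ▸ mul_mem ha (inv_mem a1)) g⁻¹]
          group
      _ = _ := by
          rw [← e2, mul_assoc g, mul_assoc _ z⁻¹, h.comm (inv_mem a2) z⁻¹]; group
  · rintro ⟨g, hg⟩
    have e1 : ∀ x : P, g * x * g⁻¹ = φ x * ((f.val (φ x))⁻¹ * f.val x) := fun x => by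
      have := hg x
      rw [hβ, hβ, ← mul_assoc, mul_assoc _ _ g⁻¹, ← h.comm (inv_mem (f2 _ (hP x.2)))] at this
      rw [← mul_assoc (φ x), this]
      group
    have ha : ∀ x : P, (f.val (φ x))⁻¹ * f.val x ∈ A := fun x =>
      mul_mem (inv_mem (f2 _ (hφ x))) (f2 _ (hP x.2))
    have m := hf g (P ⊔ A) le_sup_right (sup_le hP hAS) (by
      rw [cj_sup]
      exact sup_le (cj_le_of_forall fun u hu => (e1 ⟨u, hu⟩).symm ▸ mul_mem (hφ _) (hAS (ha _)))
        (cj_le_of_forall fun u hu => (h.conj hu g).symm ▸ hAS hu))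
    refine (m.2.2.mono le_sup_left).mem_Hom fun x => ?_
    show φ x = g * x * g⁻¹ * (f.val (g * x * g⁻¹) * (f.val x)⁻¹)
    rw [e1 x, f4 _ (hφ x) _ (ha x), mul_assoc, mul_assoc, ← mul_assoc (f.val x),
      f.val_comm (φ x) (f.val x)]
    group
  · refine le_antisymm ?_ fun s hs => ⟨⟨s * f.val s, mul_mem hs (hAS (f2 s hs))⟩, ?_⟩
    · rintro _ ⟨s, rfl⟩
      exact mul_mem s.2 (hAS (inv_mem (f2 _ s.2)))
    · rw [hβ, f4 s hs _ (f2 s hs), mul_inv_cancel_right]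

universe u v in
open Cfsg.Agent.GL in
theorem exists_ext_of_cover {Ω : Type u} {Gb : Type v} [Group Ω] [Group Gb] [Finite Gb]
    {S : Subgroup Ω} [Finite S] {p : ℕ} [Fact p.Prime] (hS : IsPGroup p S) {F : FusionSystem S}
    (hF : F.IsSaturated p) {A : Subgroup Ω} (hA : F.IsCentral A) {π0 : S →* Gb}
    (hc : GL.Cover F A π0) (hker : ∀ s : S, π0 s = 1 ↔ (s : Ω) ∈ A) (T : Sylow p Gb)
    (hT : π0.range = T) : ∃ (G0 : Type (max u v)) (_ : Group G0) (_ : Finite G0) (π : G0 →* Gb)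
      (ι : S →* G0), Ext p F A π0 π ι := by
  classical
  have hker0 := hker
  replace hker : ∀ s : S, s ∈ π0.ker ↔ (s : Ω) ∈ A := hker
  have hr := hT
  obtain ⟨G, _, _, π, ι, hπ, hι, hπι, hk, hcen⟩ := exists_ext hS π0
    (fun a ha => Subgroup.mem_center_iff.2 fun s =>
      Subtype.ext (central_comm hA ((hker a).1 ha) s.2))
    (hr ▸ T.not_dvd_index) (fun g => by
      let P : Subgroup Ω := ((cj g π0.range).comap π0).map S.subtype
      have hP : ∀ x : S, g⁻¹ * π0 x * g ∈ π0.range → (x : Ω) ∈ P := fun x hx =>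
        ⟨x, mem_cj.2 hx, rfl⟩
      have hAP : A ≤ P := fun a ha => hP ⟨a, hA.le ha⟩ (by
        rw [(hker ⟨a, hA.le ha⟩).2 ha]; simp)
      obtain ⟨f, a, b⟩ := hc.h2 g⁻¹ P hAP (Subgroup.map_subtype_le _) (by
        rintro _ ⟨x, hx, rfl⟩
        rw [inv_inv]
        exact (homFun_coe π0 x).symm ▸ mem_cj.1 hx)
      refine ⟨fun x => if h : f x ∈ S then ⟨f x, h⟩ else 1, fun x y hx hy => ?_, fun x hx => ?_,
        fun x hx => ?_⟩
      · have h1 := hP x hx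
        have h2 := hP y hy
        have h3 : ((x * y : S) : Ω) ∈ P := mul_mem h1 h2
        simp only [dif_pos (a.mem h1), dif_pos (a.mem h2), dif_pos (a.mem h3)]
        exact Subtype.ext (a.map_mul h1 h2)
      · have h1 := hAP ((hker x).1 hx)
        simp only [dif_pos (a.mem h1)]
        exact Subtype.ext (hA.apply_eq a h1 ((hker x).1 hx))
      · have h1 := hP x hx
        have := b x h1
        rw [homFun_coe, inv_inv, homFun_of_mem π0 (a.mem h1)] at this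
        simp only [dif_pos (a.mem h1)]
        exact this)
  have hrange : ι.range = π0.range.comap π := by
    refine le_antisymm (by rintro _ ⟨s, rfl⟩; exact ⟨s, (hπι s).symm⟩) ?_
    rintro g ⟨s, hs⟩
    have : (ι s)⁻¹ * g ∈ π.ker := by
      rw [MonoidHom.mem_ker, map_mul, map_inv, hπι, hs, inv_mul_cancel]
    rw [hk] at this
    obtain ⟨a, -, ha⟩ := this
    exact ⟨s * a, by rw [map_mul, ha, mul_inv_cancel_left]⟩
  let S1 : Sylow p G := (hS.of_surjective _ ι.rangeRestrict_surjective).toSylow (by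
    rw [hrange, Subgroup.index_comap_of_surjective _ hπ, hr]; exact T.not_dvd_index)
  have hS1 : ι.range = (S1 : Subgroup G) := rfl
  have hk1 : ∀ x ∈ S, homFun ι x = 1 ↔ x ∈ (⊥ : Subgroup Ω) := fun x hx => by
    rw [homFun_of_mem ι hx, Subgroup.mem_bot]
    exact ⟨fun h => congrArg Subtype.val ((injective_iff_map_eq_one ι).1 hι _ h),
      fun h => by subst h; exact map_one ι⟩
  obtain ⟨F1, hF1⟩ := H8.exists_factorSystem F (stronglyClosed_bot F) ι hk1 hS1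
  have hπι' : ∀ x ∈ S, π (homFun ι x) = homFun π0 x := fun x hx => by
    rw [homFun_of_mem ι hx, homFun_of_mem π0 hx, hπι]
  have hAk : img A (homFun ι) = π.ker := by
    rw [Lead.img_homFun_eq hA.le, hk]
    congr 1
    ext s
    exact (hker s).symm
  have hAP : ∀ P' : Subgroup G, π.ker ≤ P' → A ≤ preimageAlong ι P' := fun P' h a ha =>
    H8.mem_preimageAlong.2 ⟨hA.le ha, h (hAk ▸ mem_img_of_mem _ ha)⟩
  obtain ⟨β, hβ, hβr, hβ1, hβ2⟩ := real_twist S1 hcen (hAk ▸ H8.factor_img_le hF1 hA.le) F1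
    (H8.factor_isSaturated hF hS (stronglyClosed_bot F) hF1) (by
      refine isCentral_iff.2 ⟨hAk ▸ H8.factor_img_le hF1 hA.le, fun P' f' hf' => ?_⟩
      obtain ⟨hP', f, a, b⟩ := (H8.factor_isMor_iff hF1).1 hf'
      obtain ⟨g, c, e1, e2⟩ := hA.exists_ext a
      obtain ⟨g', hg'⟩ := H8.factor_exists_induced hF1 (stronglyClosed_bot F) c
      have m := H8.factor_isMor_of_le hF1 c bot_le hg'
      rw [((isHomOn_homFun ι).mono c.le).img_sup, H8.factor_img_preimage hF1 hP', hAk] at m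
      refine ⟨g', m, fun y hy => ?_, fun y hy => ?_⟩
      · obtain ⟨x, hx, rfl⟩ := H8.factor_exists_preimage hF1 hP' hy
        rw [hg' x (Subgroup.mem_sup_left hx), e1 x hx, b x hx]
      · rw [← hAk] at hy
        obtain ⟨x, hx, rfl⟩ := (Lead.mem_img_homFun hA.le).1 hy
        rw [hg' x (Subgroup.mem_sup_right hx), e2 x hx]) (by
      intro P' f' hf' hP
      obtain ⟨hP', f, a, b⟩ := (H8.factor_isMor_iff hF1).1 hf'
      obtain ⟨g, hg⟩ := hc.h1 _ f a (hAP P' hP)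
      obtain ⟨g, rfl⟩ := hπ g
      refine ⟨g, fun y hy => ?_⟩
      obtain ⟨x, hx, rfl⟩ := H8.factor_exists_preimage hF1 hP' hy
      rw [MonoidHom.mem_ker, b x hx, map_mul, map_inv, map_mul, map_mul, map_inv,
        hπι' _ (a.mem hx), hπι' _ (a.le hx), hg x hx, inv_mul_cancel]) (by
      intro g P' hP hP' hg
      obtain ⟨f, a, b⟩ := hc.h2 (π g) _ (hAP P' hP) (H8.preimageAlong_le ι P') (fun x hx => by
        obtain ⟨h1, h2⟩ := H8.mem_preimageAlong.1 hx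
        have h3 : g * homFun ι x * g⁻¹ ∈ π0.range.comap π := hrange ▸ hg (mem_cj_of_mem g h2)
        rwa [Subgroup.mem_comap, map_mul, map_mul, map_inv, hπι' x h1] at h3)
      obtain ⟨f', hf'⟩ := H8.factor_exists_induced hF1 (stronglyClosed_bot F) a
      refine ⟨f', (H8.factor_isMor_iff hF1).2 ⟨hP', f, a, hf'⟩, fun y hy => ?_⟩
      obtain ⟨x, hx, rfl⟩ := H8.factor_exists_preimage hF1 hP' hy
      rw [MonoidHom.mem_ker, hf' x hx, map_mul, map_inv, map_mul, map_mul, map_inv,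
        hπι' _ (a.mem hx), hπι' _ (a.le hx), b x hx, inv_mul_cancel])
  let ι1 : S →* (S1 : Subgroup G) := ι.rangeRestrict
  have hcov : Cover F ⊥ (β.comp ι1) := cover_of_realized (stronglyClosed_bot F) hF1 hβ fun x hx => by
    rw [homFun_of_mem ι hx, homFun_of_mem _ hx]
    exact homFun_coe β (ι1 ⟨x, hx⟩)
  refine ⟨G, inferInstance, inferInstance, π, β.comp ι1, hπ,
    hcov.realized (hβ.1.comp fun x y e => hι (congrArg Subtype.val e)), ⟨S1, ?_⟩, fun s => ?_, hker0,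
    ?_, hcen⟩
  · rw [MonoidHom.range_comp, (MonoidHom.range_eq_top (f := ι1)).2 ι.rangeRestrict_surjective,
      ← MonoidHom.range_eq_map, hβr]
  · have := hβ1 (ι1 s)
    rw [MonoidHom.mem_ker, map_mul, map_inv, inv_mul_eq_one] at this
    exact this.symm.trans (hπι s)
  · have e : ∀ s ∈ π0.ker, (β.comp ι1) s = ι s := fun s hs => hβ2 (ι1 s) (hk ▸ ⟨s, hs, rfl⟩)
    rw [hk]
    ext g
    exact ⟨fun ⟨s, hs, e'⟩ => ⟨s, hs, (e s hs).trans e'⟩, fun ⟨s, hs, e'⟩ => ⟨s, hs, (e s hs).symm.trans e'⟩⟩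

end Cfsg.Agent.SP
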