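import Cfsg.Agent.Lib.SP.Defs

/-! S5260, row SP-Tw (notes/SP.md). -/

set_option autoImplicit false
set_option linter.unusedSectionVars false
set_option linter.unusedVariables false

namespace Cfsg.Agent.SP

open Cfsg Cfsg.FusionSystem Cfsg.Agent.H7
open Cfsg.Agent.H9 (U4)

theorem tw_core {Ω G0 : Type*} [Group Ω] [Group G0] [Finite G0] {S : Subgroup Ω}
    [Finite S] {p : ℕ} [Fact p.Prime] (hS : IsPGroup p S) {F F0 : FusionSystem S}
    (hF : F.IsSaturated p) {A : Subgroup Ω} (hA : F.IsNormal A) (h0 : F.IsKNormSys A ⊥ F0)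
    {ι : S →* G0} (hι : F0.IsRealizedBy ι) (T : Sylow p G0) (hT : (T : Subgroup G0) = ι.range)
    {ρ : MulAut S} (hρ : ρ ∈ F.autGroup S) {δ : MulAut G0}
    (hδ : ∀ (j : ℤ) s, (δ ^ j) (ι s) = ι ((ρ ^ j) s)) (ho : (orderOf δ).Coprime p)
    (hgen : ∀ α ∈ F.autGroup S, ∃ j : ℤ, ∀ s : S, (s : Ω) ∈ A → α s = (ρ ^ j) s) :
    F.IsRealizable p := by
  let G := G0 ⋊[(Subgroup.zpowers δ).subtype] Subgroup.zpowers δ
  have : Finite G := Finite.of_equiv _ SemidirectProduct.equivProd.symm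
  let ι' : S →* G := SemidirectProduct.inl.comp ι
  have e1 : ∀ x, homFun ι' x = SemidirectProduct.inl (homFun ι x) := fun x => by
    by_cases hx : x ∈ S
    · rw [homFun_of_mem _ hx, homFun_of_mem _ hx]; rfl
    · simp [homFun, hx]
  have e2 : ∀ (j : ℤ), ∀ x ∈ S, (δ ^ j) (homFun ι x) = homFun ι (equivFun (ρ ^ j) x) :=
    fun j x hx => by rw [homFun_of_mem _ hx, equivFun_of_mem _ hx, homFun_coe, hδ]
  refine GL.isRealizable_of (ι := ι') (isRealizedBy_iff.2
    ⟨SemidirectProduct.inl_injective.comp hι.1, fun P f hP hf hm => ⟨fun a => ?_, ?_⟩⟩)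
    ((hS.of_surjective _ ι'.rangeRestrict_surjective).toSylow ?_) rfl
  · obtain ⟨g, g1, g2, g3⟩ := hA.exists_ext a
    obtain ⟨g', g4, g5⟩ := (hF.isReceptive_of_fc hS (F.isFullyCentralized_of_le_centralizer hA.le
      (h0.bot_eq.le.trans centralizerIn_le_centralizer))).exists_ext_centralizerIn g3
    obtain ⟨α, hα, g6⟩ := (g4.mono (h0.bot_eq.le.trans le_sup_right)).isIso_top.exists_aut
    obtain ⟨j, hj⟩ := hgen α hα
    obtain ⟨-, -, -, g0, hg⟩ := hι.isMor_iff.1 (h0.bot_isMor_of_fixed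
      ((isMor_of_mem_autGroup le_rfl (inv_mem (zpow_mem hρ j))).comp' g1 fun x hx => g1.mem hx)
      le_sup_right le_sup_left hP fun x hx => by
        rw [← g5 x hx, ← g6 x (hA.le hx), equivFun_of_mem α (hA.le hx), hj _ hx,
          ← equivFun_of_mem _ (hA.le hx), equivFun_inv_apply _ (hA.le hx)])
    refine ⟨SemidirectProduct.inr ⟨δ ^ j, j, rfl⟩ * SemidirectProduct.inl g0, fun x hx => ?_⟩
    have := congrArg (δ ^ j) (hg x hx)
    rw [e2 j _ (equivFun_mem _ (g1.mem (Subgroup.mem_sup_left hx))),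
      equivFun_apply_inv _ (g1.mem (Subgroup.mem_sup_left hx)), g2 x hx] at this
    rw [e1, e1, this]
    refine (SemidirectProduct.inl_aut (φ := (Subgroup.zpowers δ).subtype) ⟨δ ^ j, j, rfl⟩ _).trans ?_
    simp only [map_mul, map_inv, mul_inv_rev, mul_assoc]
  · rintro ⟨⟨g0, _, j, rfl⟩, hg⟩
    have e3 : ∀ x ∈ P, homFun ι (f x) = g0 * homFun ι (equivFun (ρ ^ j) x) * g0⁻¹ := fun x hx => by
      refine SemidirectProduct.inl_injective (φ := (Subgroup.zpowers δ).subtype) ?_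
      rw [← e2 j x (hP hx), ← e1, hg x hx, e1, map_mul, map_mul, map_inv, SemidirectProduct.mk_eq_inl_mul_inr]
      refine Eq.trans ?_ (congrArg (fun u => _ * u * _)
        (SemidirectProduct.inl_aut (φ := (Subgroup.zpowers δ).subtype) ⟨δ ^ j, j, rfl⟩ _).symm)
      simp only [map_inv, mul_inv_rev, mul_assoc]
    have a := (isMor_of_mem_autGroup le_rfl (zpow_mem hρ j)).mono hP
    obtain ⟨f', f1, f2⟩ := Lead.exists_mor_of_conj hι a.img_le g0 fun y hy => by
      obtain ⟨x, hx, rfl⟩ := a.mem_img.1 hy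
      rw [← e3 x hx]
      exact Lead.homFun_mem_range ι (hm x hx)
    refine ((h0.isSubsystemOf.isMor f1).comp' a fun x hx => mem_img_of_mem _ hx).congr
      fun x hx => Lead.homFun_inj hι.1 (f1.mem (mem_img_of_mem _ hx)) (hm x hx) ?_
    rw [f2 _ (mem_img_of_mem _ hx), e3 x hx]
  · rw [MonoidHom.range_comp, Subgroup.index_map_of_injective _ SemidirectProduct.inl_injective,
      SemidirectProduct.range_inl_eq_ker_rightHom, Subgroup.index_ker,
      MonoidHom.range_eq_top.2 SemidirectProduct.rightHom_surjective, Subgroup.card_top,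
      Nat.card_zpowers, ← hT, (Fact.out : p.Prime).dvd_mul]
    exact not_or.2 ⟨T.not_dvd_index, (Fact.out : p.Prime).coprime_iff_not_dvd.1 ho.symm⟩

theorem isRealizable_of_twist {Ω G0 : Type*} [Group Ω] [Group G0] [Finite G0] {S : Subgroup Ω}
    [Finite S] {p : ℕ} [Fact p.Prime] (hS : IsPGroup p S) {F F0 : FusionSystem S}
    (hF : F.IsSaturated p) {A : Subgroup Ω} (hA : F.IsNormal A) (h0 : F.IsKNormSys A ⊥ F0)
    {ι : S →* G0} (hι : F0.IsRealizedBy ι) (T : Sylow p G0) (hT : (T : Subgroup G0) = ι.range)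
    {ρ : MulAut S} (hρ : ρ ∈ F.autGroup S) {δ : MulAut G0} (hδ : ∀ s, δ (ι s) = ι (ρ s))
    (hgen : ∀ α ∈ F.autGroup S, ∃ n : ℕ, ∀ s : S, (s : Ω) ∈ A → α s = (ρ ^ n) s) :
    F.IsRealizable p := by
  let B : Subgroup (MulAut G0 × MulAut S) :=
    { carrier := {x | ∀ s, x.1 (ι s) = ι (x.2 s)}
      one_mem' := fun s => rfl
      mul_mem' := fun {a b} ha hb s => (congrArg a.1 (hb s)).trans (ha _)
      inv_mem' := fun {a} ha s => a.1.injective (by simp [ha _]) }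
  obtain ⟨k, hk⟩ := exists_pow_orderOf_coprime (p := p) (isOfFinOrder_of_finite δ)
  obtain ⟨m, hm, l, hl⟩ := exists_coprime_pow_pElt (p := p) (isOfFinOrder_of_finite ρ)
  refine tw_core hS hF hA h0 hι T hT (pow_mem hρ (p ^ k))
    (fun j => zpow_mem (pow_mem (show (δ, ρ) ∈ B from hδ) (p ^ k)) j) hk fun α hα => ?_
  obtain ⟨n, hn⟩ := hgen α hα
  obtain ⟨a, b, e⟩ := Nat.isCoprime_iff_coprime.2 (hm.pow_right k)
  obtain ⟨g, hg, e'⟩ := mem_inn_iff.1 (zpow_mem (H9.mem_inn_of_pElt hS hF (pow_mem hρ m) hl) (a * n))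
  refine ⟨b * n, fun s hs => ?_⟩
  have : ((ρ ^ m) ^ (a * n)) s = s :=
    Subtype.ext ((e' s).trans (conj_eq_of_mem_centralizer (h0.bot_eq.le hg).2 hs))
  rw [hn s hs, ← congrArg ((ρ ^ p ^ k) ^ (b * n)) this, ← MulAut.mul_apply, ← zpow_natCast,
    ← zpow_natCast, ← zpow_natCast, ← zpow_mul, ← zpow_mul, ← zpow_add]
  congr 2
  linear_combination -(n : ℤ) * e

end Cfsg.Agent.SP
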