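import Cfsg.Agent.Lib.SP.Str2
import Cfsg.Agent.Lib.SP.Cov
import Cfsg.Agent.Lib.SP.Real
import Cfsg.Agent.Lib.SP.Lift
import Cfsg.Agent.Lib.SP.Tw

/-! S5260, row SP-Fin2 (notes/SP.md). -/

set_option autoImplicit false
set_option linter.unusedSectionVars false
set_option linter.unusedVariables false

namespace Cfsg.Agent.SP

open Cfsg Cfsg.FusionSystem Cfsg.Agent.H7
open Cfsg.Agent.H9 (U4)
open scoped commutatorElement

theorem fin_mem_aut {Ω : Type*} [Group Ω] {S A : Subgroup Ω} {F F0 : FusionSystem S} (hA : A ≤ S)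
    (h0 : F.IsKNormSys A ⊥ F0) {α : MulAut S} :
    α ∈ F0.autGroup S ↔ α ∈ F.autGroup S ∧ ∀ s : S, (s : Ω) ∈ A → α s = s := by
  rw [mem_autGroup_iff_isMor le_rfl (f := equivFun α) (fun x => (equivFun_coe α x).symm),
    mem_autGroup_iff_isMor le_rfl (f := equivFun α) (fun x => (equivFun_coe α x).symm),
    h0.isMor_iff_of_le hA]
  constructor
  · rintro ⟨-, h1, κ, hκ, h2⟩
    obtain rfl := Subgroup.mem_bot.1 hκ
    exact ⟨h1, fun s hs => Subtype.ext (by rw [← equivFun_coe, h2 s hs, equivFun_one hs])⟩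
  · rintro ⟨h1, h2⟩
    exact ⟨le_rfl, h1, 1, one_mem _, fun x hx => by
      rw [equivFun_one hx, equivFun_of_mem α (hA hx), h2 _ hx]⟩

section
variable {K : Type*} [Field K]

open Matrix in
/-- Conjugation by an invertible matrix. -/
def cjM (D D' : Matrix (Fin 3) (Fin 3) K) (h : D' * D = 1) :
    SpecialLinearGroup (Fin 3) K →* SpecialLinearGroup (Fin 3) K :=
  MonoidHom.mk' (fun g => ⟨D * g.1 * D', by
      rw [det_mul, det_mul, g.2, mul_one, mul_comm, ← det_mul, h, det_one]⟩) fun a b =>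
    Subtype.ext (by
      show D * (a.1 * b.1) * D' = D * a.1 * D' * (D * b.1 * D')
      rw [Matrix.mul_assoc (D * a.1), ← Matrix.mul_assoc D', ← Matrix.mul_assoc D', h]
      simp [Matrix.mul_assoc])

open Matrix in
theorem exists_diag_aut {a b : K} (ha : a ≠ 0) (hb : b ≠ 0) :
    ∃ δ : SpecialLinearGroup (Fin 3) K ≃* SpecialLinearGroup (Fin 3) K,
      ∀ i z y, δ (S5259.uu i z y) = S5259.uu (a * i) (b * z) (a * b * y) := by
  have h1 : diagonal ![(a * b)⁻¹, b⁻¹, 1] * diagonal ![a * b, b, 1] = (1 : Matrix _ _ K) := by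
    rw [diagonal_mul_diagonal, ← diagonal_one]
    congr 1
    ext i; fin_cases i <;> simp [hb]
    field_simp
  have h2 := mul_eq_one_comm.1 h1
  refine ⟨MonoidHom.toMulEquiv (cjM _ _ h1) (cjM _ _ h2) ?_ ?_, fun i z y => Subtype.ext ?_⟩
  · ext1 g
    refine Subtype.ext ?_
    show _ * (_ * g.1 * _) * _ = g.1
    rw [← Matrix.mul_assoc, ← Matrix.mul_assoc, h1, Matrix.mul_assoc, h1]; simp
  · ext1 g
    refine Subtype.ext ?_
    show _ * (_ * g.1 * _) * _ = g.1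
    rw [← Matrix.mul_assoc, ← Matrix.mul_assoc, h2, Matrix.mul_assoc, h2]; simp
  · show diagonal ![a * b, b, 1] * !![1, i, y; 0, 1, z; 0, 0, 1] * diagonal ![(a * b)⁻¹, b⁻¹, 1] =
      !![1, a * i, a * b * y; 0, 1, b * z; 0, 0, 1]
    ext r c
    fin_cases r <;> fin_cases c <;> simp [hb] <;> field_simp

theorem piU_eq_one (e1 e2 : K →+ K) (s : (⊤ : Subgroup (U4 K))) :
    piU e1 e2 s = 1 ↔ (s : U4 K) ∈ sX K := by
  rw [← S5259.uu_zero]
  constructor
  · intro h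
    obtain ⟨h1, h2, h3⟩ := S5259.uu_inj h
    rw [yt, h1, h2] at h3
    exact ⟨by simpa using h3, h2, h1⟩
  · rintro ⟨h1, h2, h3⟩
    show S5259.uu s.1.i s.1.z (yt e1 e2 s.1) = _
    simp [yt, h1, h2, h3]

theorem range_piU (e1 e2 : K →+ K) : (piU e1 e2).range = S5259.UU K := by
  refine le_antisymm (by rintro _ ⟨s, rfl⟩; exact ⟨_, _, _, rfl⟩) ?_
  rintro _ ⟨a, b, c, rfl⟩
  refine ⟨⟨⟨0, c - e1 b - e2 a, b, a⟩, trivial⟩, ?_⟩
  show S5259.uu a b (c - e1 b - e2 a + e1 b + e2 a) = _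
  congr 1; ring

theorem conj_of_mem_sX (g : U4 K) {u : U4 K} (hu : u ∈ sX K) : g * u * g⁻¹ = u := by
  rw [conj_def]; ext <;> simp [hu.1, hu.2.1, hu.2.2]

end

variable {K : Type*} [Field K] [Finite K] [CharP K 2] {F : FusionSystem (⊤ : Subgroup (U4 K))}

theorem sZ_le_commutator {w : K} (h0 : w ≠ 0) (h1 : w ≠ 1) :
    sZ K ≤ ⁅(⊤ : Subgroup (U4 K)), (⊤ : Subgroup (U4 K))⁆ := by
  have two : (2 : K) = 0 := CharTwo.two_eq_zero
  have hw : w + 1 ≠ 0 := fun h => h1 (by linear_combination h - two)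
  have key : ∀ s b : K, (⟨s ^ 2 * b, s * b, 0, 0⟩ : U4 K) ∈
      ⁅(⊤ : Subgroup (U4 K)), (⊤ : Subgroup (U4 K))⁆ := fun s b => by
    have := Subgroup.commutator_mem_commutator (Subgroup.mem_top (⟨0, 0, 0, s⟩ : U4 K))
      (Subgroup.mem_top (⟨0, 0, b, 0⟩ : U4 K))
    rw [commutatorElement_def, conj_def] at this
    simpa [U4.mul_def, U4.inv_def] using this
  intro u hu
  have := mul_mem (mul_mem (key 1 u.y) (key 1 ((u.x + u.y) / (w + 1))))
    (key w ((u.x + u.y) / (w + 1) / w))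
  convert this using 1
  ext <;> simp only [U4.mul_def, hu.1, hu.2]
  · field_simp; linear_combination (-u.y * (w + 1)) * two
  · field_simp; linear_combination (-(u.x + u.y)) * two
  · simp
  · simp

theorem isRealizable_two (hF : F.IsSaturated 2) (hc : ¬ Con F) {W : Subgroup (U4 K)}
    (hW : F.IsNormal W) (hW1 : W ≠ ⊥) (hX : W ≤ sX K) : F.IsRealizable 2 := by
  classical
  have two : (2 : K) = 0 := CharTwo.two_eq_zero
  have hS := isPGroup_top (K := K) 2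
  obtain ⟨hN, e1, e2, h⟩ := exists_str2 hF hc hW hW1 hX
  obtain ⟨F0, h0⟩ := exists_isKNormSys F (T := ⊤) (le_top (a := sX K)) ⊥ (by
    rw [kNormalizerIn_bot]
    exact (eq_top_iff.2 fun s _ => mem_centralizerIn'.2 ⟨Subgroup.mem_top s, fun a ha =>
      (mul_inv_eq_iff_eq_mul.1 (conj_of_mem_sX s ha)).symm⟩).symm)
  have hF0 := h0.isSaturated hF hS
    (hF.isFullyKNormalized_of_fc hS hN.weaklyClosed.isFullyCentralized bot_le)
  have hA0 := h0.bot_isCentral le_rfl le_top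
  have := Fintype.ofFinite K
  obtain ⟨T, hT⟩ := S5259.sylow_UU (K := K) 2
  obtain ⟨G0, _, _, π, ι, hx⟩ := exists_ext_of_cover hS hF0 hA0 (h.cover h0 hF0)
    (piU_eq_one e1 e2) T ((range_piU e1 e2).trans hT.symm)
  obtain ⟨T0, hT0⟩ := hx.syl
  by_cases hall : ∀ α ∈ F.autGroup ⊤, ∀ s : (⊤ : Subgroup (U4 K)), (s : U4 K) ∈ sX K → α s = s
  · exact isRealizable_of_twist hS hF hN h0 hx.real T0 hT0 (one_mem _) (δ := 1) (fun _ => rfl)
      fun α hα => ⟨0, hall α hα⟩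
  have act : ∀ α ∈ F.autGroup ⊤, ∀ c : K, (∀ u ∈ sX K, (equivFun α u).x = c * u.x) →
      ∀ s : (⊤ : Subgroup (U4 K)), (s : U4 K) ∈ sX K → (α s).1 = ⟨c * s.1.x, 0, 0, 0⟩ := by
    intro α hα c hc s hs
    have := hN.stronglyClosed.map_mem ((mem_autGroup_iff le_rfl).1 hα).mor trivial hs
    rw [← hc s hs]
    rw [equivFun_coe] at this ⊢
    exact U4.ext rfl this.1 this.2.1 this.2.2
  push Not at hall
  obtain ⟨α, hα, s0, hs0, hne⟩ := hall
  obtain ⟨s, a, b, ha, hb, hχ, hd⟩ := h.dnS _ ((mem_autGroup_iff le_rfl).1 hα)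
  have w0 : a ^ 2 * b ≠ 0 := mul_ne_zero (pow_ne_zero 2 ha) hb
  have w1 : a ^ 2 * b ≠ 1 := fun e => hne (Subtype.ext (by
    rw [act α hα _ hχ s0 hs0, e, one_mul]
    exact U4.ext rfl hs0.1.symm hs0.2.1.symm hs0.2.2.symm))
  have hi := ((isMor_conj F le_rfl (Subgroup.mem_top s)).comp'
    ((mem_autGroup_iff le_rfl).1 hα).mor fun _ _ => trivial).isIso_top
  have hρ := hi.toMulEquiv_mem_autGroup
  have hρX : ∀ u : (⊤ : Subgroup (U4 K)), (u : U4 K) ∈ sX K →
      (hi.toMulEquiv u).1 = ⟨a ^ 2 * b * u.1.x, 0, 0, 0⟩ := act _ hρ _ fun u hu => by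
    rw [hi.equivFun_toMulEquiv trivial, conj_of_mem_sX s (hN.stronglyClosed.map_mem
      ((mem_autGroup_iff le_rfl).1 hα).mor trivial hu), hχ u hu]
  obtain ⟨δ, hδ⟩ := exists_diag_aut ha hb
  have hZ := sZ_le_commutator w0 w1
  obtain ⟨δ', hδ'⟩ := hx.exists_lift hS hF0 hA0 δ hi.toMulEquiv (fun u => by
      obtain ⟨h1, h2, h3⟩ := hd u
      refine (hδ _ _ _).trans ?_
      rw [← h1, ← h2, ← h3]; rfl)
    (fun β hβ => by
      rw [fin_mem_aut le_top h0] at hβ ⊢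
      refine ⟨mul_mem (mul_mem hρ hβ.1) (inv_mem hρ), fun u hu => ?_⟩
      have := H9.aInv_of_stronglyClosed hN.stronglyClosed le_rfl _ (inv_mem hρ) u hu
      rw [MulAut.mul_apply, MulAut.mul_apply, hβ.2 _ this, MulAut.apply_inv_self])
    (sX_le_sZ.trans hZ) (by
      obtain ⟨f, hf, f1, f2⟩ := h.upS _ w0
      refine ⟨hf.toMulEquiv, (fin_mem_aut le_top h0).2 ⟨hf.toMulEquiv_mem_autGroup,
        fun u hu => Subtype.ext (f1 u hu)⟩, fun μ m1 m2 u => ?_⟩
      have hw : a ^ 2 * b + 1 ≠ 0 := fun h => w1 (by linear_combination h - two)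
      have hk : ⁅(⊤ : Subgroup (U4 K)), (⊤ : Subgroup (U4 K))⁆ ≤
          (μ.comp Subgroup.topEquiv.symm.toMonoidHom).ker :=
        Subgroup.commutator_le.2 fun x _ y _ => by
          rw [MonoidHom.mem_ker, map_commutatorElement, commutatorElement_def]
          exact mul_inv_eq_one.2 (conj_of_mem_sX _ (m1 _))
      let v : (⊤ : Subgroup (U4 K)) :=
        ⟨⟨0, 0, u.1.z / (a ^ 2 * b + 1), u.1.i / (a ^ 2 * b + 1)⟩, trivial⟩
      have h1 : μ (u * v * (hf.toMulEquiv v)⁻¹) = 1 := hk (hZ (x := u * v * (f v)⁻¹) ⟨by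
        rw [mul_z, mul_z, inv_z, (f2 v).2.1]
        simp only [v]
        field_simp
        linear_combination u.1.z * two, by
        rw [mul_i, mul_i, inv_i, (f2 v).1]
        simp only [v]
        field_simp
        linear_combination u.1.i * two⟩)
      simpa [m2] using h1)
    (fun g _ hg u _ => by
      have h1 := (hg ⟨0, 0, 1, 0⟩ trivial).1
      have h2 := (hg ⟨0, 0, 0, 1⟩ trivial).1
      rw [conj_def] at h1 h2
      simp [U4.mul_def, U4.inv_def] at h1 h2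
      rw [← mul_inv_eq_iff_eq_mul, conj_def]
      ext <;> simp [h1, h2, two])
  refine isRealizable_of_twist hS hF hN h0 hx.real T0 hT0 hρ hδ' fun β hβ => ?_
  obtain ⟨-, a', b', ha', hb', hχ', -⟩ := h.dnS _ ((mem_autGroup_iff le_rfl).1 hβ)
  have c0 : a' ^ 2 * b' ≠ 0 := mul_ne_zero (pow_ne_zero 2 ha') hb'
  obtain ⟨n, hn⟩ : ∃ n : ℕ, a' ^ 2 * b' = (a ^ 2 * b) ^ n := by
    have e1 := h.cube _ w0
    have e2 := h.cube _ c0
    generalize a ^ 2 * b = w at *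
    generalize a' ^ 2 * b' = c at *
    have e3 : w ^ 2 + w + 1 = 0 := (mul_eq_zero.1 (by linear_combination e1 :
      (w - 1) * (w ^ 2 + w + 1) = 0)).resolve_left (sub_ne_zero.2 w1)
    have : (c - w ^ 0) * ((c - w ^ 1) * (c - w ^ 2)) = 0 := by
      linear_combination e2 - (c ^ 2 - c * w) * e3 - e1
    rcases mul_eq_zero.1 this with e | e
    · exact ⟨0, sub_eq_zero.1 e⟩
    · exact (mul_eq_zero.1 e).elim (fun e => ⟨1, sub_eq_zero.1 e⟩) fun e => ⟨2, sub_eq_zero.1 e⟩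
  refine ⟨n, fun u hu => Subtype.ext ?_⟩
  rw [act β hβ _ hχ' u hu, hn]
  clear hn
  induction n with
  | zero => exact U4.ext (by simp) hu.1.symm hu.2.1.symm hu.2.2.symm
  | succ n ih =>
    rw [pow_succ' hi.toMulEquiv, MulAut.mul_apply, hρX _ (by rw [← ih]; exact ⟨rfl, rfl, rfl⟩), ← ih,
      pow_succ', mul_assoc (a ^ 2 * b)]

end Cfsg.Agent.SP
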