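import Cfsg.Agent.Lib.SP.SL2

/-! S5260, row SP-Mod2 (notes/SP.md). -/

set_option autoImplicit false
set_option linter.unusedSectionVars false
set_option linter.unusedVariables false

namespace Cfsg.Agent.SP

open Cfsg Cfsg.FusionSystem Cfsg.Agent.H7
open Cfsg.Agent.H9 (U4)

variable {K : Type*} [Field K] [Finite K] [CharP K 2] {Γ : Type*} [Group Γ] [Finite Γ]
  [DistribMulAction Γ (K × K × K)] [FaithfulSMul Γ (K × K × K)] {G T : Subgroup Γ}
  {κ : K → K → K} {τ : K → Γ}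

/-- The data of the characteristic two module lemma. -/
structure M2 (G T : Subgroup Γ) (κ : K → K → K) (τ : K → Γ) : Prop where
  syl : SylowIn 2 T G
  surj : ∀ d c : K, d ≠ 0 → c ≠ 0 → ∃ s b, s * b = c ∧ κ s b = d
  act : ∀ s (v : K × K × K), τ s • v = (v.1 + κ s v.2.2, v.2.1 + s * v.2.2, v.2.2)
  mem : ∀ g, g ∈ T ↔ ∃ s, g = τ s

/-- The stabilizer of `Z`. -/
def m2N (K : Type*) [Field K] [DistribMulAction Γ (K × K × K)] (G : Subgroup Γ) : Subgroup Γ :=
  let M : Submonoid Γ :=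
    { carrier := {g | g ∈ G ∧ ∀ v : K × K × K, v.2.2 = 0 → (g • v).2.2 = 0}
      one_mem' := ⟨G.one_mem, fun v h => by rwa [one_smul]⟩
      mul_mem' := fun ha hb => ⟨G.mul_mem ha.1 hb.1,
        fun v h => by rw [mul_smul]; exact ha.2 _ (hb.2 v h)⟩ }
  { M with inv_mem' := fun h => inv_mem_of_pow_mem (M := M) h }

/-- The unipotent elements. -/
def m2U (K : Type*) [Field K] (Γ : Type*) [Group Γ] [DistribMulAction Γ (K × K × K)] :
    Subgroup Γ where
  carrier := {g | (∀ v : K × K × K, (g • v).2.2 = v.2.2) ∧ ∀ v : K × K × K, v.2.2 = 0 → g • v = v}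
  one_mem' := ⟨fun v => by rw [one_smul], fun v _ => one_smul _ v⟩
  mul_mem' ha hb := ⟨fun v => by rw [mul_smul, ha.1, hb.1],
    fun v h => by rw [mul_smul, hb.2 v h, ha.2 v h]⟩
  inv_mem' {g} ha := ⟨fun v => by rw [← ha.1, smul_inv_smul],
    fun v h => by rw [inv_smul_eq_iff, ha.2 v h]⟩

theorem m2_add_self (v : K × K × K) : v + v = 0 := by
  ext <;> simp [CharTwo.add_self_eq_zero]

theorem isPGroup_m2U : IsPGroup 2 (m2U K Γ) := by
  rintro ⟨g, g1, g2⟩
  refine ⟨1, Subtype.ext (eq_of_smul_eq_smul fun v : K × K × K => ?_)⟩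
  change g ^ 2 ^ 1 • v = (1 : Γ) • v
  have := g2 (g • v + v) (by simp [g1, CharTwo.add_self_eq_zero])
  rw [smul_add, add_comm (g • v)] at this
  rw [pow_one, sq, mul_smul, one_smul, add_right_cancel this]

namespace M2

theorem τ_mem (h : M2 G T κ τ) (s : K) : τ s ∈ T := (h.mem _).2 ⟨s, rfl⟩

theorem fix (h : M2 G T κ τ) (s : K) {v : K × K × K} (hv : v.2.2 = 0) : τ s • v = v := by
  have := h.act s 0
  rw [smul_zero] at this
  have h0 : κ s 0 = 0 := by simpa using (congrArg Prod.fst this).symm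
  rw [h.act, hv, h0]
  ext <;> simp [hv]

theorem T_le_U (h : M2 G T κ τ) : T ≤ m2U K Γ := fun g hg => by
  obtain ⟨s, rfl⟩ := (h.mem g).1 hg
  exact ⟨fun v => by rw [h.act], fun v => h.fix s⟩

theorem T_le (h : M2 G T κ τ) : T ≤ m2N K G := fun g hg =>
  ⟨h.syl.le hg, fun v hv => by rw [(h.T_le_U hg).1, hv]⟩

/-- An element that stabilizes `Z` normalizes `T`. -/
theorem conj_mem (h : M2 G T κ τ) {g : Γ} (hg : g ∈ G)
    (hZ : ∀ v : K × K × K, v.2.2 = 0 → (g • v).2.2 = 0) {t : Γ} (ht : t ∈ T) :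
    g * t * g⁻¹ ∈ T := by
  have hU := h.T_le_U ht
  have hi := (m2N K G).inv_mem (⟨hg, hZ⟩ : g ∈ m2N K G)
  refine h.syl.max (m2U K Γ ⊓ G) (isPGroup_m2U.to_le inf_le_left) (le_inf h.T_le_U h.syl.le)
    inf_le_right ⟨⟨fun v => ?_, fun v hv => ?_⟩, G.mul_mem (G.mul_mem hg (h.syl.le ht))
      (G.inv_mem hg)⟩
  · have := hZ (t • g⁻¹ • v - g⁻¹ • v) (by simp [hU.1])
    rw [smul_sub, smul_inv_smul] at this
    rw [mul_smul, mul_smul]
    exact sub_eq_zero.1 this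
  · rw [mul_smul, mul_smul, hU.2 _ (hi.2 v hv), smul_inv_smul]

/-- If `T` is not normal in `G`, some element of `G` moves `Z`. -/
theorem moves (h : M2 G T κ τ) (hn : ∃ g ∈ G, ∃ t ∈ T, g * t * g⁻¹ ∉ T) :
    ∃ g ∈ G, ∃ v : K × K × K, v.2.2 = 0 ∧ (g • v).2.2 ≠ 0 := by
  obtain ⟨g, hg, t, ht, hgt⟩ := hn
  by_contra h0
  push Not at h0
  exact hgt (h.conj_mem hg (h0 g hg) ht)

theorem ti (h : M2 G T κ τ) {g : Γ} (hg : g ∈ G) {s : K} (hs : s ≠ 0)
    (hN : g * τ s * g⁻¹ ∈ m2N K G) : g ∈ m2N K G := by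
  obtain ⟨k, hk⟩ := h.syl.isPGroup ⟨_, h.τ_mem s⟩
  have hk' : τ s ^ 2 ^ k = 1 := congrArg Subtype.val hk
  have h1 : g * τ s * g⁻¹ ∈ T := h.syl.mem_of_mem_normalizer hN.1
    (Subgroup.mem_normalizer_fintype fun t ht => h.conj_mem hN.1 hN.2 ht) (k := k)
    (by rw [conj_pow, hk']; simp)
  refine (m2N K G).inv_mem_iff.1 ⟨G.inv_mem hg, fun v hv => ?_⟩
  have := (h.T_le_U h1).2 v hv
  rw [mul_smul, mul_smul, smul_eq_iff_eq_inv_smul, h.act] at this
  simpa [hs] using congrArg (·.2.1) this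

theorem not_mem_iff {g : Γ} (hg : g ∈ G) :
    g ∉ m2N K G ↔ ∃ v : K × K × K, v.2.2 = 0 ∧ (g • v).2.2 ≠ 0 := by
  refine ⟨fun h => ?_, fun ⟨v, h1, h2⟩ h => h2 (h.2 v h1)⟩
  by_contra h0
  push Not at h0
  exact h ⟨hg, h0⟩

/-- `Z ∩ gZ` lies in one of the two root groups of `Z = {v.2.2 = 0}`. -/
theorem dich (h : M2 G T κ τ) {g : Γ} (hg : g ∈ G)
    (hZ : ∃ v : K × K × K, v.2.2 = 0 ∧ (g • v).2.2 ≠ 0) :
    (∀ v : K × K × K, v.2.2 = 0 → (g • v).2.2 = 0 → (g • v).2.1 = 0) ∨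
      ∀ v : K × K × K, v.2.2 = 0 → (g • v).2.2 = 0 → (g • v).1 = 0 := by
  have hgN := (not_mem_iff hg).2 hZ
  obtain ⟨H, ⟨hTH, hHG, hHN, hHg⟩, hmin⟩ := exists_min_card
    (𝓒 := {H : Subgroup Γ | T ≤ H ∧ H ≤ G ∧ ¬ H ≤ m2N K G ∧
      ∀ α ∈ H, ∀ v : K × K × K, v.2.2 = 0 → (g • v).2.2 = 0 → α • g • v = g • v})
    ⟨G ⊓ ⨅ v : K × K × K, ⨅ _ : v.2.2 = 0, ⨅ _ : (g • v).2.2 = 0, MulAction.stabilizer Γ (g • v),
      le_inf h.syl.le (le_iInf fun v => le_iInf fun _ => le_iInf fun h2 t ht =>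
        (h.T_le_U ht).2 _ h2), inf_le_left, fun hle => hgN (h.ti hg one_ne_zero (hle
          (Subgroup.mem_inf.2 ⟨G.mul_mem (G.mul_mem hg (h.syl.le (h.τ_mem 1))) (G.inv_mem hg), by
            simp only [Subgroup.mem_iInf, MulAction.mem_stabilizer_iff]
            intro v h1 _
            rw [mul_smul, mul_smul, inv_smul_smul, h.fix 1 h1]⟩))),
      fun α hα v h1 h2 => by
        have := (Subgroup.mem_inf.1 hα).2
        simp only [Subgroup.mem_iInf, MulAction.mem_stabilizer_iff] at this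
        exact this v h1 h2⟩
  have le_of : ∀ D : Subgroup Γ, T ≤ D → ∀ k ∈ H, k ∉ m2N K G → ∀ s, s ≠ 0 → k * τ s * k⁻¹ ∈ D →
      H ≤ D := fun D hD k hk hkN s hs hkD => by
    have h1 : D ⊓ H = H := Subgroup.eq_of_le_of_card_ge inf_le_right (hmin _ ⟨le_inf hD hTH,
      inf_le_right.trans hHG, fun hle => hkN (h.ti (hHG hk) hs (hle ⟨hkD,
        H.mul_mem (H.mul_mem hk (hTH (h.τ_mem s))) (H.inv_mem hk)⟩)),
      fun α hα => hHg α hα.2⟩)
    exact h1 ▸ inf_le_left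
  obtain ⟨k, hk, hkN⟩ := SetLike.not_le_iff_exists.1 hHN
  have miss : ∀ v : K × K × K, v.2.2 = 0 → (k • v).2.2 ≠ 0 → ∀ s, s ≠ 0 →
      ¬ ∀ α ∈ H, α • (τ s • k • v - k • v) = τ s • k • v - k • v := fun v hv hkv s hs hf => by
    let D : Subgroup Γ :=
      { carrier := {α | α ∈ H ∧ ∀ β ∈ H, β • (α • v - v) = α • v - v}
        one_mem' := ⟨H.one_mem, by simp⟩
        mul_mem' := fun {a b} ha hb => ⟨H.mul_mem ha.1 hb.1, fun β hβ => by
          rw [mul_smul, show a • b • v - v = a • (b • v - v) + (a • v - v) by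
            rw [smul_sub]; abel, hb.2 a ha.1, smul_add, hb.2 β hβ, ha.2 β hβ]⟩
        inv_mem' := fun {a} ha => ⟨H.inv_mem ha.1, fun β hβ => by
          rw [show a⁻¹ • v - v = -(a⁻¹ • (a • v - v)) by rw [smul_sub, inv_smul_smul]; abel,
            ha.2 _ (H.inv_mem ha.1), smul_neg, ha.2 β hβ]⟩ }
    have hD : H ≤ D := le_of D (fun t ht => ⟨hTH ht, by simp [(h.T_le_U ht).2 v hv]⟩) k⁻¹
      (H.inv_mem hk) (fun e => hkN (by simpa using (m2N K G).inv_mem e)) s hs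
      ⟨H.mul_mem (H.mul_mem (H.inv_mem hk) (hTH (h.τ_mem s))) (H.inv_mem (H.inv_mem hk)),
        fun β hβ => by
          rw [inv_inv, mul_smul, mul_smul, show k⁻¹ • τ s • k • v - v =
            k⁻¹ • (τ s • k • v - k • v) by rw [smul_sub, inv_smul_smul], hf _ (H.inv_mem hk),
            hf β hβ]⟩
    have := (hD hk).2 _ (hTH (h.τ_mem 1))
    rw [h.act] at this
    exact hkv (by simpa [hv] using congrArg (·.2.1) this)
  obtain ⟨v0, hv0, hkv0⟩ := (not_mem_iff (hHG hk)).1 hkN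
  have hsurj : Function.Surjective fun s : K => (k • (τ s • k • v0 - k • v0)).2.2 := by
    refine Finite.surjective_of_injective fun s s' e => ?_
    by_contra hne
    obtain ⟨s'', e'⟩ := (h.mem _).1 (T.mul_mem (T.inv_mem (h.τ_mem s')) (h.τ_mem s))
    have e1 : τ s'' • k • v0 - k • v0 = τ s • k • v0 - τ s' • k • v0 := by
      rw [← (h.T_le_U (T.inv_mem (h.τ_mem s'))).2 (τ s • k • v0 - τ s' • k • v0) (by simp [h.act]),
        smul_sub, inv_smul_smul, ← e', mul_smul]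
    have hs : s'' ≠ 0 := by
      rintro rfl
      have := congrArg (·.2.1) e1
      simp [h.act, hkv0, ← sub_mul, eq_comm (a := (0 : K)), sub_eq_zero] at this
      exact hne this
    refine miss v0 hv0 hkv0 s'' hs fun α hα => ?_
    have z1 : (τ s'' • k • v0 - k • v0).2.2 = 0 := by simp [h.act]
    have z2 : (k • (τ s'' • k • v0 - k • v0)).2.2 = 0 := by
      rw [e1, show τ s • k • v0 - τ s' • k • v0 = (τ s • k • v0 - k • v0) -
        (τ s' • k • v0 - k • v0) by abel, smul_sub]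
      exact sub_eq_zero.2 e
    have hH := le_of (MulAction.stabilizer Γ (k • (τ s'' • k • v0 - k • v0)))
      (fun t ht => (h.T_le_U ht).2 _ z2) k hk hkN 1 one_ne_zero (by
        rw [MulAction.mem_stabilizer_iff, mul_smul, mul_smul, inv_smul_smul, h.fix 1 z1])
    have := hH (H.mul_mem (H.mul_mem hk hα) (H.inv_mem hk))
    rwa [MulAction.mem_stabilizer_iff, mul_smul, mul_smul, inv_smul_smul,
      smul_left_cancel_iff] at this
  have key : ∀ v : K × K × K, v.2.2 = 0 → (g • v).2.2 = 0 → (g • v).2.1 = 0 ∨ (g • v).1 = 0 := by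
    intro v h1 h2
    by_contra hn
    push Not at hn
    obtain ⟨s, b, e1, e2⟩ := h.surj _ _ hn.2 hn.1
    obtain ⟨s', e3⟩ := hsurj b
    simp only at e3
    refine miss (τ s' • k • v0 - k • v0) (by simp [h.act]) (by
      rw [e3]; rintro rfl; exact hn.1 (by rw [← e1, mul_zero])) s (by
      rintro rfl; exact hn.1 (by rw [← e1, zero_mul])) fun α hα => ?_
    have : τ s • k • (τ s' • k • v0 - k • v0) - k • (τ s' • k • v0 - k • v0) = g • v := by
      rw [h.act s, e3]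
      ext <;> simp [e1, e2, e3, h2]
    rw [this, hHg α hα v h1 h2]
  by_contra hn
  push Not at hn
  obtain ⟨⟨v, a1, a2, a3⟩, v', b1, b2, b3⟩ := hn
  have a4 := (key v a1 a2).resolve_left a3
  have b4 := (key v' b1 b2).resolve_right b3
  rcases key (v + v') (by simp [a1, b1]) (by simp [smul_add, a2, b2]) with e | e
  · exact a3 (by simpa [smul_add, b4] using e)
  · exact b3 (by simpa [smul_add, a4] using e)

theorem str (h : M2 G T κ τ) (hn : ∃ g ∈ G, ∃ t ∈ T, g * t * g⁻¹ ∉ T) {w : K} (hw : w ≠ 0)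
    (hW : ∀ g ∈ G, (g • ((w, 0, 0) : K × K × K)).2.2 = 0) :
    (∀ g ∈ G, ∀ d : K, (g • ((d, 0, 0) : K × K × K)).2 = 0) ∧ ∃ e : K →+ K,
      (∀ a b c d : K, a * d - b * c = 1 → ∃ r ∈ G,
        (∀ x : K, r • ((x, 0, 0) : K × K × K) = (x, 0, 0)) ∧ ∀ v : K × K × K,
          (r • v).2.1 + e (r • v).2.2 = a * (v.2.1 + e v.2.2) + b * v.2.2 ∧
          (r • v).2.2 = c * (v.2.1 + e v.2.2) + d * v.2.2) ∧
      ∀ g ∈ G, (∀ v : K × K × K, v.2.2 = 0 → (g • v).2.2 = 0) ∨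
        ∃ s : K, ∀ v : K × K × K, v.2.2 = 0 → (g • v).2.1 + e (g • v).2.2 = s * (g • v).2.2 := by
  have two : (2 : K) = 0 := CharTwo.two_eq_zero
  have star : ∀ g ∈ G, g ∉ m2N K G → ∀ v : K × K × K, v.2.2 = 0 → (g • v).2.2 = 0 →
      (g • v).2.1 = 0 := fun g hg hN => (h.dich hg ((not_mem_iff hg).1 hN)).resolve_right
    fun h1 => hw (by simpa using h1 _ (hW _ (G.inv_mem hg)) (by simp))
  have inv : ∀ g, g ∉ m2N K G → g⁻¹ ∉ m2N K G := fun g hN e => hN ((m2N K G).inv_mem_iff.1 e)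
  have star' : ∀ g ∈ G, g ∉ m2N K G → ∀ v : K × K × K, v.2.2 = 0 → (g • v).2.2 = 0 →
      v.2.1 = 0 := fun g hg hN v h1 h2 => by
    simpa using star _ (G.inv_mem hg) (inv g hN) _ h2 (by simpa using h1)
  have bij : ∀ g ∈ G, g ∉ m2N K G →
      Function.Bijective fun c : K => (g • ((0, c, 0) : K × K × K)).2.2 := fun g hg hN =>
    Finite.injective_iff_bijective.1 fun c c' e => sub_eq_zero.1 (by
      have := star' g hg hN ((0, c, 0) - (0, c', 0)) (by simp)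
        (by rw [smul_sub]; exact sub_eq_zero.2 e)
      simpa using this)
  have hX0 : ∀ g ∈ G, g ∉ m2N K G → ∀ v : K × K × K, v.2 = 0 → (g • v).2 = 0 :=
    fun g hg hN v hv => by
      obtain ⟨c, hc⟩ := (bij g hg hN).2 (g • v).2.2
      have h1 : c = 0 := by
        have := star' g hg hN ((0, c, 0) - v) (by simp [hv])
          (by rw [smul_sub]; exact sub_eq_zero.2 hc)
        simpa [hv] using this
      have h2 : (g • v).2.2 = 0 := by
        rw [← hc, h1]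
        exact congrArg (fun x : K × K × K => x.2.2) (smul_zero g)
      exact Prod.ext (star g hg hN v (by simp [hv]) h2) h2
  obtain ⟨g0, hg0, h0⟩ := h.moves hn
  have hN0 := (not_mem_iff hg0).2 h0
  have hX : ∀ g ∈ G, ∀ v : K × K × K, v.2 = 0 → (g • v).2 = 0 := fun g hg v hv => by
    by_cases hN : g ∈ m2N K G
    · have := hX0 _ (G.mul_mem hg hg0) (fun e => hN0 (((m2N K G).mul_mem_cancel_left hN).1 e)) _
        (hX0 _ (G.inv_mem hg0) (inv _ hN0) v hv)
      rwa [mul_smul, smul_inv_smul] at this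
    · exact hX0 g hg hN v hv
  let f : K →+ K × K := (AddMonoidHom.snd K (K × K)).comp ((DistribSMul.toAddMonoidHom _ g0).comp
    ((AddMonoidHom.inr K (K × K)).comp (AddMonoidHom.inl K K)))
  let β : K ≃+ K := AddEquiv.ofBijective ((AddMonoidHom.snd K K).comp f) (bij g0 hg0 hN0)
  let e : K →+ K := ((AddMonoidHom.fst K K).comp f).comp β.symm.toAddMonoidHom
  have he : ∀ c : K, e (g0 • ((0, c, 0) : K × K × K)).2.2 = (g0 • ((0, c, 0) : K × K × K)).2.1 :=
    fun c => congrArg (fun x => (f x).1) (β.symm_apply_apply c)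
  have L1 : ∀ v : K × K × K, v.2.2 = 0 → (g0 • v).2.1 + e (g0 • v).2.2 = 0 := fun v hv => by
    rw [show v = (v.1, 0, 0) + (0, v.2.1, 0) by ext <;> simp [hv], smul_add, Prod.snd_add,
      hX g0 hg0 _ rfl, zero_add, he, CharTwo.add_self_eq_zero]
  have L2 : ∀ v : K × K × K, v.2.1 + e v.2.2 = 0 → (g0⁻¹ • v).2.2 = 0 := fun v hv => by
    obtain ⟨c, hc⟩ := (bij g0 hg0 hN0).2 v.2.2
    simp only at hc
    have := hX _ (G.inv_mem hg0) (v - g0 • (0, c, 0)) (Prod.ext (by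
      rw [Prod.snd_sub, Prod.fst_sub, ← he, hc]
      exact (CharTwo.sub_eq_add _ _).trans hv) (sub_eq_zero.2 hc.symm))
    rw [smul_sub, inv_smul_smul] at this
    simpa using congrArg Prod.snd this
  have dn : ∀ g ∈ G, g ∉ m2N K G → ∃ s : K, ∀ v : K × K × K, v.2.2 = 0 →
      (g • v).2.1 + e (g • v).2.2 = s * (g • v).2.2 := fun g hg hN => by
    obtain ⟨v0, a1, a2⟩ := (not_mem_iff hg).1 hN
    obtain ⟨s, hs⟩ : ∃ s, s * (g • v0).2.2 = (g • v0).2.1 + e (g • v0).2.2 :=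
      ⟨_, div_mul_cancel₀ _ a2⟩
    have hk := G.mul_mem (G.mul_mem (G.inv_mem hg0) (h.syl.le (h.τ_mem s))) hg
    have hkN : g0⁻¹ * τ s * g ∈ m2N K G := by
      by_contra hN'
      have := star' _ hk hN' v0 a1 (by
        rw [mul_smul, mul_smul]
        refine L2 _ ?_
        rw [h.act]
        linear_combination hs + ((g • v0).2.1 + e (g • v0).2.2) * two)
      exact a2 (congrArg Prod.snd (hX g hg v0 (Prod.ext this a1)))
    refine ⟨s, fun v hv => ?_⟩
    have := L1 _ (hkN.2 v hv)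
    rw [mul_smul, mul_smul, smul_inv_smul, h.act] at this
    linear_combination this - s * (g • v).2.2 * two
  have low : ∀ s (v : K × K × K), (g0 • τ s • g0⁻¹ • v).2.1 + e (g0 • τ s • g0⁻¹ • v).2.2 =
      v.2.1 + e v.2.2 ∧ (g0 • τ s • g0⁻¹ • v).2.2 =
        (g0 • τ s • g0⁻¹ • ((0, 1, 0) : K × K × K)).2.2 * (v.2.1 + e v.2.2) + v.2.2 := by
    intro s
    have a1 : ∀ v : K × K × K, (g0 • τ s • g0⁻¹ • v).2.1 + e (g0 • τ s • g0⁻¹ • v).2.2 =
        v.2.1 + e v.2.2 := fun v => by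
      have := L1 (τ s • g0⁻¹ • v - g0⁻¹ • v) (by simp [h.act])
      rw [smul_sub, smul_inv_smul, Prod.snd_sub, Prod.fst_sub, Prod.snd_sub, map_sub] at this
      linear_combination this
    have a2 : ∀ y : K, (g0 • τ s • g0⁻¹ • ((0, y, 0) : K × K × K)).2.2 =
        (g0 • τ s • g0⁻¹ • ((0, 1, 0) : K × K × K)).2.2 * y := fun y => by
      by_cases hN : g0 * τ s * g0⁻¹ ∈ m2N K G
      · rw [← mul_smul, ← mul_smul, ← mul_smul, ← mul_smul, hN.2 _ rfl, hN.2 _ rfl, zero_mul]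
      · obtain ⟨t, ht⟩ := dn _ (G.mul_mem (G.mul_mem hg0 (h.syl.le (h.τ_mem s)))
          (G.inv_mem hg0)) hN
        have b1 := ht (0, y, 0) rfl
        have b2 := ht (0, 1, 0) rfl
        rw [mul_smul, mul_smul, a1] at b1 b2
        simp only [map_zero, add_zero] at b1 b2
        linear_combination (g0 • τ s • g0⁻¹ • ((0, y, 0) : K × K × K)).2.2 * b2 -
          (g0 • τ s • g0⁻¹ • ((0, 1, 0) : K × K × K)).2.2 * b1
    refine fun v => ⟨a1 v, ?_⟩
    have a3 := h.fix s (L2 (v - (0, v.2.1 + e v.2.2, 0)) (by simp))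
    have a4 := congrArg (fun x => (g0 • x).2.2) a3
    simp only [smul_sub, smul_inv_smul, Prod.snd_sub, a2 (v.2.1 + e v.2.2)] at a4
    linear_combination a4
  have msurj : Function.Surjective fun s =>
      (g0 • τ s • g0⁻¹ • ((0, 1, 0) : K × K × K)).2.2 := Finite.surjective_of_injective
    fun s s' e' => by
      have a1 := hX _ (G.inv_mem hg0) (g0 • τ s • g0⁻¹ • ((0, 1, 0) : K × K × K) -
        g0 • τ s' • g0⁻¹ • ((0, 1, 0) : K × K × K)) (Prod.ext (by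
          have b1 := (low s (0, 1, 0)).1
          have b2 := (low s' (0, 1, 0)).1
          rw [e'] at b1
          exact sub_eq_zero.2 (add_right_cancel (b1.trans b2.symm))) (sub_eq_zero.2 e'))
      rw [smul_sub, inv_smul_smul, inv_smul_smul, h.act, h.act] at a1
      have a2 : (g0⁻¹ • ((0, 1, 0) : K × K × K)).2.2 ≠ 0 := fun e0 => by
        simpa using L1 _ e0
      simpa [a2, sub_eq_zero] using congrArg Prod.fst a1
  refine ⟨fun g hg d => hX g hg _ rfl, e, sl2_gen ?_ (fun s => ?_) fun m => ?_,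
    fun g hg => (em (g ∈ m2N K G)).imp (fun h => h.2) (dn g hg)⟩
  · rintro a b c d a' b' c' d' ⟨r, hr, r1, r2⟩ ⟨r', hr', r1', r2'⟩
    refine ⟨r * r', G.mul_mem hr hr', fun x => by rw [mul_smul, r1', r1], fun v => ?_⟩
    rw [mul_smul, (r2 _).1, (r2 _).2, (r2' v).1, (r2' v).2]
    exact ⟨by ring, by ring⟩
  · exact ⟨τ s, h.syl.le (h.τ_mem s), fun x => h.fix s rfl, fun v => by
      rw [h.act]; exact ⟨by ring, by ring⟩⟩
  · obtain ⟨s, rfl⟩ := msurj m
    refine ⟨g0 * τ s * g0⁻¹, G.mul_mem (G.mul_mem hg0 (h.syl.le (h.τ_mem s))) (G.inv_mem hg0),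
      fun x => ?_, fun v => ?_⟩
    · rw [mul_smul, mul_smul, h.fix s (congrArg Prod.snd (hX _ (G.inv_mem hg0) _ rfl)),
        smul_inv_smul]
    · rw [mul_smul, mul_smul, (low s v).1, (low s v).2]
      exact ⟨by ring, by ring⟩

end M2

end Cfsg.Agent.SP
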