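import Cfsg.Agent.Lib.SP.Defs

/-! S5260, row SP-ModO (notes/SP.md). -/

set_option autoImplicit false
set_option linter.unusedSectionVars false
set_option linter.unusedVariables false

namespace Cfsg.Agent.SP

open Cfsg Cfsg.FusionSystem Cfsg.Agent.H7
open Cfsg.Agent.H9 (U4)

variable {K : Type*} [Field K] [Finite K] {p : ℕ} [Fact p.Prime] [CharP K p]

/-- Counting with an additive character. -/
theorem card_mul_le {X B : AddSubgroup K} (hX : X ≠ ⊤) {Φ : AddSubgroup K}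
    (h : ∀ a ∈ Φ, ∀ b ∈ B, a * b ∈ X) : Nat.card Φ * Nat.card B ≤ Nat.card K := by
  classical
  obtain ⟨y, hy⟩ : ∃ y, y ∉ X := by
    by_contra h0
    push Not at h0
    exact hX (eq_top_iff.2 fun y _ => h0 y)
  have hy' : (y : K ⧸ X) ≠ 0 := fun e => hy ((QuotientAddGroup.eq_zero_iff y).1 e)
  obtain ⟨χ, hχ⟩ := (AddChar.exists_apply_ne_zero (α := K ⧸ X)).2 hy'
  let f : B → AddChar (K ⧸ Φ) ℂ := fun b => χ.compAddMonoidHom (QuotientAddGroup.map Φ X
    (AddMonoidHom.mulRight (b : K)) fun a ha => h a ha b b.2)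
  have hf : ∀ (b : B) (a : K), f b a = χ ((a * b : K) : K ⧸ X) := fun _ _ => rfl
  have hi : Function.Injective f := fun b b' e => by
    by_contra hne
    have h1 : (b : K) - b' ≠ 0 := sub_ne_zero.2 fun e' => hne (Subtype.ext e')
    have h2 := DFunLike.congr_fun e ((y / (b - b') : K) : K ⧸ Φ)
    rw [hf, hf] at h2
    refine hχ ?_
    rw [show y = y / (b - b') * b - y / (b - b') * b' by field_simp, QuotientAddGroup.mk_sub,
      AddChar.map_sub_eq_div, h2, div_self]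
    exact fun e0 => by simpa [e0] using χ.norm_apply ((y / (b - b') * b' : K) : K ⧸ X)
  have h1 := Nat.card_le_card_of_injective f hi
  let _ := Fintype.ofFinite (K ⧸ Φ)
  rw [Nat.card_eq_fintype_card (α := AddChar _ _), AddChar.card_eq, ← Nat.card_eq_fintype_card] at h1
  rw [AddSubgroup.card_eq_card_quotient_mul_card_addSubgroup Φ, mul_comm]
  exact Nat.mul_le_mul_right _ h1

section
variable {Γ : Type*} [Group Γ] [Finite Γ] [DistribMulAction Γ (K × K × K)]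
  [FaithfulSMul Γ (K × K × K)]

/-- The hypotheses of `mod_odd`. -/
structure MO (p : ℕ) (G T : Subgroup Γ) (τ : K → Γ) (w : K) : Prop where
  two : (2 : K) ≠ 0
  syl : SylowIn p T G
  act : ∀ t (v : K × K × K), τ t • v =
    (v.1 + 2 * t * v.2.1 + t ^ 2 * v.2.2, v.2.1 + t * v.2.2, v.2.2)
  mem : ∀ g, g ∈ T ↔ ∃ t, g = τ t
  tor : ∀ l : K, l ≠ 0 → ∃ g ∈ G, (∀ d : K, g • ((d, 0, 0) : K × K × K) = (d, 0, 0)) ∧
    (∀ c : K, (g • ((0, c, 0) : K × K × K)).2.1 = l * c) ∧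
    ∀ v : K × K × K, (g • v).2.2 = l ^ 2 * v.2.2
  w0 : w ≠ 0
  fix : ∀ g ∈ G, g • ((w, 0, 0) : K × K × K) = (w, 0, 0)

/-- The stabilizer of the flag. -/
def moN (K : Type*) [Field K] [DistribMulAction Γ (K × K × K)] (G : Subgroup Γ) : Subgroup Γ :=
  let M : Submonoid Γ :=
    { carrier := {g | g ∈ G ∧ (∀ v : K × K × K, v.2 = 0 → (g • v).2 = 0) ∧
        ∀ v : K × K × K, v.2.2 = 0 → (g • v).2.2 = 0}
      one_mem' := ⟨G.one_mem, fun v h => by rwa [one_smul], fun v h => by rwa [one_smul]⟩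
      mul_mem' := fun ha hb => ⟨G.mul_mem ha.1 hb.1,
        fun v h => by rw [mul_smul]; exact ha.2.1 _ (hb.2.1 v h),
        fun v h => by rw [mul_smul]; exact ha.2.2 _ (hb.2.2 v h)⟩ }
  { M with inv_mem' := fun h => inv_mem_of_pow_mem (M := M) h }

theorem mem_moN {G : Subgroup Γ} {g : Γ} : g ∈ moN K G ↔ g ∈ G ∧
    (∀ v : K × K × K, v.2 = 0 → (g • v).2 = 0) ∧
      ∀ v : K × K × K, v.2.2 = 0 → (g • v).2.2 = 0 := Iff.rfl

/-- The pointwise stabilizer of the line `X`. -/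
def moF (K : Type*) [Field K] (Γ : Type*) [Group Γ] [DistribMulAction Γ (K × K × K)] :
    Subgroup Γ where
  carrier := {g | ∀ v : K × K × K, v.2 = 0 → g • v = v}
  one_mem' v _ := one_smul _ v
  mul_mem' ha hb v h := by rw [mul_smul, hb v h, ha v h]
  inv_mem' ha v h := by rw [inv_smul_eq_iff, ha v h]

/-- The unipotent elements. -/
def moU (K : Type*) [Field K] (Γ : Type*) [Group Γ] [DistribMulAction Γ (K × K × K)] :
    Subgroup Γ where
  carrier := {g | (∀ v : K × K × K, (g • v).2.2 = v.2.2) ∧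
    (∀ v : K × K × K, v.2.2 = 0 → (g • v).2.1 = v.2.1) ∧ ∀ v : K × K × K, v.2 = 0 → g • v = v}
  one_mem' := ⟨fun v => by rw [one_smul], fun v _ => by rw [one_smul], fun v _ => one_smul _ v⟩
  mul_mem' ha hb := ⟨fun v => by rw [mul_smul, ha.1, hb.1],
    fun v h => by rw [mul_smul, ha.2.1 _ ((hb.1 v).trans h), hb.2.1 v h],
    fun v h => by rw [mul_smul, hb.2.2 v h, ha.2.2 v h]⟩
  inv_mem' {g} ha := by
    have h1 : ∀ v : K × K × K, (g⁻¹ • v).2.2 = v.2.2 := fun v => by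
      rw [← ha.1, smul_inv_smul]
    refine ⟨h1, fun v h => ?_, fun v h => by rw [inv_smul_eq_iff, ha.2.2 v h]⟩
    rw [← ha.2.1 _ ((h1 v).trans h), smul_inv_smul]

theorem isPGroup_moU (p : ℕ) [hp : Fact p.Prime] [CharP K p] : IsPGroup p (moU K Γ) := by
  rintro ⟨g, g1, g2, g3⟩
  refine ⟨2, Subtype.ext (eq_of_smul_eq_smul fun v : K × K × K => ?_)⟩
  have e1 : (g • v - v).2.2 = 0 := by simp [g1]
  have e2 : (g • (g • v - v) - (g • v - v)).2 = 0 :=
    Prod.ext (by rw [Prod.snd_sub, Prod.fst_sub, g2 _ e1, sub_self]; rfl)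
      (by rw [Prod.snd_sub, Prod.snd_sub, g1, sub_self]; rfl)
  have key : ∀ k : ℕ, g ^ k • v = v + k • (g • v - v) +
      k.choose 2 • (g • (g • v - v) - (g • v - v)) := by
    intro k
    induction k with
    | zero => simp
    | succ k ih =>
      rw [pow_succ', mul_smul, ih, smul_add, smul_add, smul_comm g k, smul_comm g (k.choose 2),
        g3 _ e2, Nat.choose_succ_succ' k 1, Nat.choose_one_right]
      generalize g • (g • v - v) = B
      generalize g • v = A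
      module
  have h0 : ∀ (k : ℕ) (u : K × K × K), p ∣ k → k • u = 0 := by
    rintro _ u ⟨k, rfl⟩
    ext <;> simp
  have h2 : 2 ≠ p ^ 2 := by nlinarith [hp.out.two_le]
  change g ^ p ^ 2 • v = (1 : Γ) • v
  rw [key, h0 _ _ (dvd_pow_self p two_ne_zero), h0 _ _ (hp.out.dvd_choose_pow two_ne_zero h2)]
  simp

namespace MO
variable {G T H : Subgroup Γ} {τ : K → Γ} {w : K} {g h : Γ}

theorem τ_mem (m : MO p G T τ w) (t : K) : τ t ∈ T := (m.mem _).2 ⟨t, rfl⟩

theorem T_le_U (m : MO p G T τ w) : T ≤ moU K Γ := fun g hg => by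
  obtain ⟨t, rfl⟩ := (m.mem g).1 hg
  refine ⟨fun v => by rw [m.act], fun v h => by simp [m.act, h], fun v h => ?_⟩
  rw [m.act]
  ext <;> simp [h]

theorem mem_T (m : MO p G T τ w) (hg : g ∈ G) (h : g ∈ moU K Γ) : g ∈ T :=
  m.syl.max (moU K Γ ⊓ G) ((isPGroup_moU p).to_le inf_le_left) (le_inf m.T_le_U m.syl.le)
    inf_le_right ⟨h, hg⟩

theorem T_le (m : MO p G T τ w) : T ≤ moN K G ⊓ moF K Γ := fun g hg =>
  have := m.T_le_U hg
  ⟨⟨m.syl.le hg, fun v h => by rw [this.2.2 v h, h], fun v h => by rw [this.1, h]⟩, this.2.2⟩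

theorem conj_mem (m : MO p G T τ w) (hg : g ∈ moN K G) {t : Γ} (ht : t ∈ T) :
    g * t * g⁻¹ ∈ T := by
  have hU := m.T_le_U ht
  have hi := (moN K G).inv_mem hg
  refine m.mem_T (G.mul_mem (G.mul_mem hg.1 (m.syl.le ht)) (G.inv_mem hg.1))
    ⟨fun v => ?_, fun v h => ?_, fun v h => ?_⟩
  · have := hg.2.2 (t • g⁻¹ • v - g⁻¹ • v) (by simp [hU.1])
    rw [smul_sub, smul_inv_smul] at this
    rw [mul_smul, mul_smul]
    exact sub_eq_zero.1 this
  · have := hg.2.1 (t • g⁻¹ • v - g⁻¹ • v)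
      (Prod.ext (by simp [hU.2.1 _ (hi.2.2 v h)]) (by simp [hU.1]))
    rw [smul_sub, smul_inv_smul] at this
    rw [mul_smul, mul_smul]
    exact sub_eq_zero.1 (congrArg Prod.fst this)
  · rw [mul_smul, mul_smul, hU.2.2 _ (hi.2.1 v h), smul_inv_smul]

theorem fix_iff (m : MO p G T τ w) {s : K} (hs : s ≠ 0) {v : K × K × K} :
    τ s • v = v ↔ v.2 = 0 := by
  refine ⟨fun e => ?_, (m.T_le_U (m.τ_mem s)).2.2 v⟩
  rw [m.act] at e
  have h1 : v.2.2 = 0 := by simpa [hs] using congrArg (·.2.1) e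
  have h2 : v.2.1 = 0 := by simpa [hs, h1, m.two] using congrArg (·.1) e
  exact Prod.ext h2 h1

theorem fix_iff' (m : MO p G T τ w) {s : K} {v : K × K × K} (h : v.2 = 0) : τ s • v = v :=
  (m.T_le_U (m.τ_mem s)).2.2 v h

theorem ti (m : MO p G T τ w) (hg : g ∈ G) {s : K} (hs : s ≠ 0) (h : g * τ s * g⁻¹ ∈ moN K G) :
    g ∈ moN K G := by
  obtain ⟨k, hk⟩ := m.syl.isPGroup ⟨_, m.τ_mem s⟩
  have hk' : τ s ^ p ^ k = 1 := congrArg Subtype.val hk
  have h1 : g * τ s * g⁻¹ ∈ T := m.syl.mem_of_mem_normalizer h.1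
    (Subgroup.mem_normalizer_fintype fun t ht => m.conj_mem h ht) (k := k)
    (by rw [conj_pow, hk']; simp)
  obtain ⟨s', e⟩ := (m.mem _).1 h1
  have e' : ∀ v : K × K × K, g • τ s • v = τ s' • g • v := fun v => by
    rw [← e, mul_smul, mul_smul, inv_smul_smul]
  have hs' : s' ≠ 0 := by
    rintro rfl
    have := e' (0, 0, 1)
    rw [(m.act 0 _).trans (by simp : _ = g • ((0, 0, 1) : K × K × K)), smul_left_cancel_iff,
      m.fix_iff hs] at this
    simp at this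
  refine ⟨hg, fun v hv => (m.fix_iff hs').1 (by rw [← e', (m.fix_iff hs).2 hv]), fun v hv => ?_⟩
  have h2 := m.two
  have : v = τ s • ((0, (v.1 - s * v.2.1) / (2 * s), v.2.1 / s) : K × K × K) -
      (0, (v.1 - s * v.2.1) / (2 * s), v.2.1 / s) := by
    rw [m.act]
    ext <;> simp [hv] <;> field_simp
    ring
  rw [this, smul_sub, e', m.act]
  simp

end MO

/-- `H` is minimal over `N₀` and not inside `N`. -/
structure MH (p : ℕ) (G T H : Subgroup Γ) (τ : K → Γ) (w : K) : Prop extends MO p G T τ w where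
  le : moN K G ⊓ moF K Γ ≤ H
  le' : H ≤ G
  min : ∀ D : Subgroup Γ, moN K G ⊓ moF K Γ ≤ D → D ≤ H → ¬ D ≤ moN K G → H ≤ D

namespace MH
variable {G T H : Subgroup Γ} {τ : K → Γ} {w : K} {g h : Γ}

theorem τ_H (m : MH p G T H τ w) (t : K) : τ t ∈ H := m.le (m.T_le (m.τ_mem t))

theorem le_of (m : MH p G T H τ w) (hh : h ∈ H) (hN : h ∉ moN K G) {s : K} (hs : s ≠ 0)
    {D : Subgroup Γ} (h1 : moN K G ⊓ moF K Γ ≤ D) (h2 : h * τ s * h⁻¹ ∈ D) : H ≤ D :=
  (m.min (D ⊓ H) (le_inf h1 m.le) inf_le_right fun h3 => hN (m.ti (m.le' hh) hs (h3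
    ⟨h2, H.mul_mem (H.mul_mem hh (m.τ_H s)) (H.inv_mem hh)⟩))).trans inf_le_left

theorem step1 (m : MH p G T H τ w) (hh : h ∈ H) (hN : h ∉ moN K G) {y : K × K × K}
    (hy : y.2 = 0) (hz : (h • y).2.2 = 0) : (h • y).2 = 0 := by
  by_contra hne
  have hc : (h • y).2.1 ≠ 0 := fun e => hne (Prod.ext e hz)
  have hw : ∀ g ∈ G, ∀ u ∈ AddSubgroup.zmultiples ((w, 0, 0) : K × K × K), g • u = u := by
    rintro g hg _ ⟨n, rfl⟩
    rw [smul_comm, m.fix g hg]
  let D : Subgroup Γ :=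
    { carrier := {α | α ∈ G ∧ α • y - y ∈ AddSubgroup.zmultiples ((w, 0, 0) : K × K × K)}
      one_mem' := ⟨G.one_mem, by simp⟩
      mul_mem' := fun {a b} ha hb => ⟨G.mul_mem ha.1 hb.1, by
        have := AddSubgroup.add_mem _ ha.2 hb.2
        rw [← hw a ha.1 _ hb.2, smul_sub] at this
        rw [mul_smul]
        convert this using 1
        abel⟩
      inv_mem' := fun {a} ha => ⟨G.inv_mem ha.1, by
        have := AddSubgroup.neg_mem _ ha.2
        rwa [← hw a⁻¹ (G.inv_mem ha.1) _ ha.2, smul_sub, inv_smul_smul, neg_sub] at this⟩ }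
  have h2 := m.two
  have h1 := m.le_of (H.inv_mem hh) (fun e => hN (inv_mem_iff.1 e)) (D := D)
    (s := w / (2 * (h • y).2.1)) (div_ne_zero m.w0 (mul_ne_zero h2 hc))
    (fun α hα => ⟨hα.1.1, by rw [hα.2 y hy, sub_self]; exact zero_mem _⟩)
    ⟨m.le' (H.mul_mem (H.mul_mem (H.inv_mem hh) (m.τ_H _)) (H.inv_mem (H.inv_mem hh))), by
      have : τ (w / (2 * (h • y).2.1)) • h • y = h • y + (w, 0, 0) := by
        rw [m.act]
        ext <;> simp [hz]
        field_simp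
      rw [inv_inv, mul_smul, mul_smul, this, smul_add, inv_smul_smul,
        m.fix _ (G.inv_mem (m.le' hh)), add_sub_cancel_left]
      exact AddSubgroup.mem_zmultiples _⟩ hh
  obtain ⟨n, hn⟩ := h1.2
  have := congrArg (·.2.1) hn
  simp [hy] at this
  exact hc this.symm

theorem step1' (m : MH p G T H τ w) (hh : h ∈ H) (hN : h ∉ moN K G) {y : K × K × K}
    (hy : y.2.2 = 0) (hz : (h • y).2 = 0) : y.2 = 0 := by
  have := m.step1 (H.inv_mem hh) (fun e => hN (inv_mem_iff.1 e)) hz (by rwa [inv_smul_smul])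
  rwa [inv_smul_smul] at this

theorem fixU (m : MH p G T H τ w) (hh : h ∈ H) (hN : h ∉ moN K G) {y : K × K × K}
    (hy : y.2 = 0) (hz : (h • y).2 = 0) (hg : g ∈ H) : g • h • y = h • y :=
  m.le_of hh hN one_ne_zero (D := MulAction.stabilizer Γ (h • y)) (fun α hα => hα.2 _ hz)
    (by rw [MulAction.mem_stabilizer_iff, mul_smul, mul_smul, inv_smul_smul,
      (m.fix_iff one_ne_zero).2 hy]) hg

theorem step2 (m : MH p G T H τ w) :
    ¬ p ∣ Nat.card (H ⊓ MulAction.stabilizer Γ ((0, 1, 0) : K × K × K) : Subgroup Γ) := by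
  intro hd
  obtain ⟨⟨s, hs, hs'⟩, ho⟩ := exists_prime_orderOf_dvd_card' p hd
  have h1 : s ^ p ^ 1 = 1 := by
    rw [pow_one, ← ho, ← Subgroup.orderOf_coe]
    exact pow_orderOf_eq_one s
  have h2 : s ≠ 1 := by
    rintro rfl
    exact (Fact.out : p.Prime).ne_one (ho.symm.trans orderOf_one)
  obtain ⟨k, hk, e⟩ := (m.syl.mono_right (m.T_le.trans m.le) m.le').exists_conj
    (isPGroup_zpowers_of_pow h1) ((Subgroup.zpowers_le).2 hs)
  obtain ⟨t, ht⟩ := (m.mem _).1 (e s (Subgroup.mem_zpowers s))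
  have ht0 : t ≠ 0 := by
    rintro rfl
    refine h2 ?_
    have : τ 0 = 1 := eq_of_smul_eq_smul fun v : K × K × K => by simp [m.act]
    rwa [this, conj_eq_one_iff] at ht
  have h3 : (k • ((0, 1, 0) : K × K × K)).2 = 0 := (m.fix_iff ht0).1 (by
    rw [← ht, mul_smul, mul_smul, inv_smul_smul, MulAction.mem_stabilizer_iff.1 hs'])
  by_cases hN : k ∈ moN K G
  · simpa using ((moN K G).inv_mem hN).2.1 _ h3
  · simpa using m.step1' hk hN rfl h3

theorem exists_nu (m : MH p G T H τ w) : ∃ ν : K × K × K →+ K × K × K, ν (w, 0, 0) ≠ 0 ∧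
    (∀ r ∈ H, r • ((0, 1, 0) : K × K × K) = (0, 1, 0) → ∀ v, ν (r • v) = ν v) ∧
    ∀ σ ∈ H, (∀ r ∈ H, r • ((0, 1, 0) : K × K × K) = (0, 1, 0) →
      r • σ • ((0, 1, 0) : K × K × K) = σ • (0, 1, 0)) → ∀ v, ν (σ • v) = σ • ν v := by
  classical
  set R : Subgroup Γ := H ⊓ MulAction.stabilizer Γ ((0, 1, 0) : K × K × K) with hR
  let _ := Fintype.ofFinite R
  refine ⟨∑ r : R, DistribSMul.toAddMonoidHom _ (r : Γ), ?_, fun r hr e v => ?_,
    fun σ hσ e v => ?_⟩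
  · simp only [AddMonoidHom.finsetSum_apply, DistribSMul.toAddMonoidHom_apply]
    rw [Finset.sum_congr rfl fun (r : R) _ => m.fix _ (m.le' r.2.1), Finset.sum_const,
      Finset.card_univ, ← Nat.card_eq_fintype_card]
    intro e
    have : (Nat.card R : K) * w = 0 := by simpa using congrArg Prod.fst e
    exact m.step2 ((CharP.cast_eq_zero_iff K p _).1 ((mul_eq_zero.1 this).resolve_right m.w0))
  · simp only [AddMonoidHom.finsetSum_apply, DistribSMul.toAddMonoidHom_apply]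
    exact Fintype.sum_equiv (Equiv.mulRight (⟨r, hr, e⟩ : R)) _ _ fun x => (mul_smul _ _ _).symm
  · simp only [AddMonoidHom.finsetSum_apply, DistribSMul.toAddMonoidHom_apply]
    let f : R → R := fun r => ⟨σ⁻¹ * r * σ, H.mul_mem (H.mul_mem (H.inv_mem hσ) r.2.1) hσ,
      MulAction.mem_stabilizer_iff.2 (by rw [mul_smul, mul_smul, e r r.2.1 r.2.2, inv_smul_smul])⟩
    have hf : Function.Injective f := fun a b e => Subtype.ext (by simpa [f] using congrArg Subtype.val e)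
    rw [Finset.smul_sum]
    exact Fintype.sum_bijective f (Finite.injective_iff_bijective.1 hf) _ _ fun r => by
      simp [f, mul_smul]

theorem step3 (m : MH p G T H τ w) : ∃ X0 : AddSubgroup K, X0 ≠ ⊤ ∧ ∀ h ∈ H, h ∉ moN K G →
    ∀ y : K × K × K, y.2.2 = 0 → h • y = (0, 1, 0) → ∀ x : K × K × K, x.2 = 0 → (h • x).2 = 0 →
      ∀ a : K × K × K, a.2.2 = 0 → (h • x).1 ^ 2 / 2 * (h • a).2.2 ∈ X0 := by
  obtain ⟨ν, h0, h1, h2⟩ := m.exists_nu
  refine ⟨(ν.comp (AddMonoidHom.inl K (K × K))).ker, fun e => h0 (e.ge (x := w) trivial),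
    fun h hh hN y hy hy' x hx hx' a ha => ?_⟩
  have ht := m.two
  obtain ⟨u, hu⟩ : ∃ u, h • x = (u, 0, 0) := ⟨(h • x).1, Prod.ext rfl hx'⟩
  have hf : ∀ g ∈ H, g • ((u, 0, 0) : K × K × K) = (u, 0, 0) := fun g hg =>
    hu ▸ m.fixU hh hN hx hx' hg
  have hc : y.2.1 ≠ 0 := fun e => by
    simpa [hy'] using m.step1 hh hN (Prod.ext e hy) (by rw [hy'])
  have e1 : τ (u / 2) • ((0, 1, 0) : K × K × K) = (0, 1, 0) + (u, 0, 0) := by
    rw [m.act]
    ext <;> simp
    field_simp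
  have e2 : τ (u / (2 * y.2.1)) • y = y + (u, 0, 0) := by
    rw [m.act]
    ext <;> simp [hy]
    field_simp
  set σ := τ (u / 2)
  set σ' := h * τ (u / (2 * y.2.1)) * h⁻¹ with hσ'
  have hσ'H : σ' ∈ H := H.mul_mem (H.mul_mem hh (m.τ_H _)) (H.inv_mem hh)
  have e3 : ∀ v, ν (σ • v) = σ • ν v := h2 σ (m.τ_H _) fun r hr e => by
    rw [e1, smul_add, e, hf r hr]
  have e4 : ∀ v, ν (σ' • v) = σ • ν v := fun v => by
    rw [← h1 (σ⁻¹ * σ') (H.mul_mem (H.inv_mem (m.τ_H _)) hσ'H) (by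
      rw [mul_smul, inv_smul_eq_iff, e1, hσ', mul_smul, mul_smul, ← hy', inv_smul_smul, e2,
        smul_add, hf h hh]) v, ← e3, mul_smul σ⁻¹, smul_inv_smul]
  have e5 : σ' • (σ' • h • a - h • a) - (σ' • h • a - h • a) = 0 := by
    rw [hσ', mul_smul, mul_smul, mul_smul, mul_smul, inv_smul_smul, ← smul_sub, inv_smul_smul,
      ← smul_sub, m.fix_iff' (Prod.ext (by simp [m.act, ha]) (by simp [m.act])), sub_self, smul_zero]
  have e6 : σ • (σ • h • a - h • a) - (σ • h • a - h • a) = (u ^ 2 / 2 * (h • a).2.2, 0, 0) := by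
    simp only [σ, m.act]
    ext <;> simp
    linear_combination (u ^ 2 / 2 * (h • a).2.2) * mul_inv_cancel₀ ht
  rw [hu, AddMonoidHom.mem_ker]
  change ν (u ^ 2 / 2 * (h • a).2.2, 0, 0) = 0
  rw [← e6, ← map_zero ν, ← e5]
  simp only [map_sub, e3, e4]

theorem exists_tor (m : MH p G T H τ w) {l : K} (hl : l ≠ 0) : ∃ g ∈ moN K G ⊓ moF K Γ,
    (∀ c, (g • ((0, c, 0) : K × K × K)).2.1 = l * c) ∧ ∀ v : K × K × K, (g • v).2.2 = l ^ 2 * v.2.2 := by
  obtain ⟨g, hg, h1, h2, h3⟩ := m.tor l hl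
  have h4 : ∀ v : K × K × K, v.2 = 0 → g • v = v := fun v hv => by
    rw [show v = (v.1, 0, 0) from Prod.ext rfl hv, h1]
  exact ⟨g, ⟨⟨hg, fun v hv => by rw [h4 v hv, hv], fun v hv => by rw [h3, hv, mul_zero]⟩, h4⟩,
    h2, h3⟩

theorem step4 (m : MH p G T H τ w) : ∃ X0 : AddSubgroup K, X0 ≠ ⊤ ∧ ∀ h ∈ H, h ∉ moN K G →
    ∀ y : K × K × K, y.2.2 = 0 → (h • y).2.2 = 0 → ∀ x : K × K × K, x.2 = 0 → (h • x).2 = 0 →
      ∀ a : K × K × K, a.2.2 = 0 → ((h • x).1 / (h • y).2.1) ^ 2 / 2 * (h • a).2.2 ∈ X0 := by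
  obtain ⟨X0, h0, h1⟩ := m.step3
  refine ⟨X0, h0, fun h hh hN y hy hy' x hx hx' a ha => ?_⟩
  by_cases hc : (h • y).2.1 = 0
  · simp [hc]
  obtain ⟨l, hl, e1, e2⟩ := m.exists_tor hc
  have h2 := m.two
  set n := τ (((h • y).1 - (l • ((0, 1, 0) : K × K × K)).1) / (2 * (h • y).2.1)) * l with hn
  have hn0 : n ∈ moN K G ⊓ moF K Γ := Subgroup.mul_mem _ (m.T_le (m.τ_mem _)) hl
  have e3 : n • ((0, 1, 0) : K × K × K) = h • y := by
    rw [hn, mul_smul, m.act]
    ext <;> simp [e1, e2, hy']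
    field_simp
    ring
  have e4 : (h • a).2.2 = (h • y).2.1 ^ 2 * ((n⁻¹ * h) • a).2.2 := by
    rw [← e2, show (l • (n⁻¹ * h) • a).2.2 = (n • (n⁻¹ * h) • a).2.2 by rw [hn, mul_smul _ l, m.act],
      mul_smul n⁻¹, smul_inv_smul]
  have e5 : (n⁻¹ * h) • x = h • x := by rw [mul_smul, inv_smul_eq_iff, hn0.2 _ hx']
  have := h1 (n⁻¹ * h) (H.mul_mem (H.inv_mem (m.le hn0)) hh)
    (fun e => hN (by simpa using (moN K G).mul_mem hn0.1 e)) y hy
    (by rw [mul_smul, inv_smul_eq_iff, e3]) x hx (by rw [e5, hx']) a ha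
  rw [e5] at this
  convert this using 1
  rw [e4]
  field_simp

theorem step5 (m : MH p G T H τ w) (hh : h ∈ H) (hN : h ∉ moN K G) (u : K) :
    ∃ x : K × K × K, x.2 = 0 ∧ h • x = (u, 0, 0) := by
  classical
  obtain ⟨X0, h0, h1⟩ := m.step4
  let f : K × K →+ K × K × K := (DistribSMul.toAddMonoidHom _ h).comp
    ((AddMonoidHom.fst K K).prod ((AddMonoidHom.snd K K).prod 0))
  have hf : ∀ v, f v = h • (v.1, v.2, 0) := fun _ => rfl
  let f1 : K × K →+ K := (AddMonoidHom.snd K K).comp ((AddMonoidHom.snd K (K × K)).comp f)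
  let f2 : f1.ker →+ K := ((AddMonoidHom.fst K K).comp
    ((AddMonoidHom.snd K (K × K)).comp f)).comp f1.ker.subtype
  let U : AddSubgroup K :=
    { carrier := {u | ∃ x : K × K × K, x.2 = 0 ∧ h • x = (u, 0, 0)}
      zero_mem' := ⟨0, rfl, smul_zero h⟩
      add_mem' := fun ⟨x, h1, h2⟩ ⟨y, h3, h4⟩ =>
        ⟨x + y, by simp [h1, h3], by simp [smul_add, h2, h4]⟩
      neg_mem' := fun ⟨x, h1, h2⟩ => ⟨-x, by simp [h1], by simp [smul_neg, h2]⟩ }
  let Φ : AddSubgroup K :=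
    { carrier := {φ | ∀ b ∈ f1.range, φ * b ∈ X0}
      zero_mem' := fun b _ => by simp
      add_mem' := fun h1 h2 b hb => by rw [add_mul]; exact X0.add_mem (h1 b hb) (h2 b hb)
      neg_mem' := fun h1 b hb => by rw [neg_mul]; exact X0.neg_mem (h1 b hb) }
  have c1 : Nat.card K * Nat.card K = Nat.card f1.range * Nat.card f1.ker := by
    rw [← Nat.card_prod, AddSubgroup.card_eq_card_quotient_mul_card_addSubgroup f1.ker,
      Nat.card_congr (QuotientAddGroup.quotientKerEquivRange f1).toEquiv]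
  have c2 : Nat.card f1.ker = Nat.card f2.range * Nat.card f2.ker := by
    rw [AddSubgroup.card_eq_card_quotient_mul_card_addSubgroup f2.ker,
      Nat.card_congr (QuotientAddGroup.quotientKerEquivRange f2).toEquiv]
  have k2 : ∀ v : f2.ker, (h • ((v.1.1.1, v.1.1.2, 0) : K × K × K)).2 = 0 := fun v =>
    Prod.ext v.2 v.1.2
  have c3 : Nat.card f2.ker ≤ Nat.card U := Nat.card_le_card_of_injective
    (fun v => ⟨(f v.1.1).1, _, m.step1' hh hN rfl (k2 v), Prod.ext rfl (k2 v)⟩) fun v v' e => by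
      have : h • ((v.1.1.1, v.1.1.2, 0) : K × K × K) = h • (v'.1.1.1, v'.1.1.2, 0) :=
        Prod.ext (congrArg Subtype.val e) ((k2 v).trans (k2 v').symm)
      simp only [smul_left_cancel_iff, Prod.mk.injEq, and_true] at this
      exact Subtype.ext (Subtype.ext (Prod.ext this.1 this.2))
  have c4 : Nat.card Φ * Nat.card f1.range ≤ Nat.card K := card_mul_le h0 fun a ha => ha
  have c5 : Nat.card f2.range ≤ 2 * Nat.card Φ := by
    let _ := Fintype.ofFinite K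
    rw [← SetLike.coe_sort_coe, ← SetLike.coe_sort_coe Φ, Nat.card_eq_card_toFinset,
      Nat.card_eq_card_toFinset]
    refine Finset.card_le_mul_card_image_of_maps_to (f := fun c => (w / c) ^ 2 / 2)
      (fun c hc => ?_) 2 fun b _ => ?_
    · obtain ⟨v, rfl⟩ := Set.mem_toFinset.1 hc
      refine Set.mem_toFinset.2 ?_
      rintro _ ⟨a, rfl⟩
      have := h1 h hh hN (v.1.1, v.1.2, 0) rfl v.2 (w, 0, 0) rfl (by rw [m.fix h (m.le' hh)]; rfl)
        (a.1, a.2, 0) rfl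
      rwa [m.fix h (m.le' hh)] at this
    · rcases Finset.eq_empty_or_nonempty {a ∈ (f2.range : Set K).toFinset | (w / a) ^ 2 / 2 = b}
        with e | ⟨c, hc⟩
      · rw [e]; simp
      refine (Finset.card_le_card (t := {c, -c}) fun c' hc' => ?_).trans Finset.card_le_two
      have e := (Finset.mem_filter.1 hc').2.trans (Finset.mem_filter.1 hc).2.symm
      rw [div_left_inj' m.two, sq_eq_sq_iff_eq_or_eq_neg, ← div_neg, div_eq_mul_inv,
        div_eq_mul_inv, div_eq_mul_inv, mul_right_inj' m.w0, mul_right_inj' m.w0, inv_inj,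
        inv_inj] at e
      simpa using e
  have c6 := U.card_mul_index
  have hq : 0 < Nat.card K := Nat.card_pos
  have hU : 0 < Nat.card U := Nat.card_pos
  have c7 : Nat.card K ≤ 2 * Nat.card U := by
    refine Nat.le_of_mul_le_mul_left ?_ hq
    calc Nat.card K * Nat.card K = Nat.card f1.range * (Nat.card f2.range * Nat.card f2.ker) := by
          rw [c1, c2]
      _ ≤ Nat.card f1.range * (2 * Nat.card Φ * Nat.card U) := by gcongr
      _ = Nat.card Φ * Nat.card f1.range * (2 * Nat.card U) := by ring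
      _ ≤ _ := by gcongr
  have c8 : U.index ≤ 2 := by
    refine Nat.le_of_mul_le_mul_left ?_ hU
    rw [c6, mul_comm]
    exact c7
  have c9 : U.index ≠ 2 := fun e => by
    let _ := Fintype.ofFinite K
    obtain ⟨n, hp, hn⟩ := FiniteField.card K p
    have : 2 ∣ p ^ (n : ℕ) := by
      rw [← hn, ← Nat.card_eq_fintype_card, ← c6, e]
      exact Dvd.intro_left _ rfl
    have h2 := (Nat.prime_dvd_prime_iff_eq Nat.prime_two hp).1 (Nat.prime_two.dvd_of_dvd_pow this)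
    exact m.two (by simpa [← h2] using CharP.cast_eq_zero K p)
  have c10 : U.index ≠ 0 := U.index_ne_zero_of_finite
  have c11 : U.index = 1 := by
    revert c8 c9 c10
    generalize U.index = n
    omega
  exact (AddSubgroup.index_eq_one.1 c11).ge (x := u) trivial

theorem fixX (m : MH p G T H τ w) (hh : h ∈ H) (hN : h ∉ moN K G) (hg : g ∈ H) {v : K × K × K}
    (hv : v.2 = 0) : g • v = v := by
  obtain ⟨x, hx, e⟩ := m.step5 hh hN v.1
  have e' : h • x = v := e.trans (Prod.ext rfl hv.symm)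
  subst e'
  exact m.fixU hh hN hx hv hg

theorem step6 (m : MH p G T H τ w) (hh : h ∈ H) (hN : h ∉ moN K G) {y : K × K × K}
    (hy : y.2.2 = 0) (hy' : (h • y).2.2 = 0) : y.2 = 0 := by
  refine m.step1' hh hN hy (Prod.ext ?_ hy')
  by_contra hc
  obtain ⟨X0, h0, h1⟩ := m.step4
  refine hN ⟨m.le' hh, fun v hv => by rw [m.fixX hh hN hh hv, hv], fun a ha => ?_⟩
  by_contra hb
  refine h0 (eq_top_iff.2 fun z _ => ?_)
  have key : ∀ s : K, s ^ 2 / 2 * (h • a).2.2 ∈ X0 := fun s => by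
    have e := m.fixX hh hN hh (v := (s * (h • y).2.1, 0, 0)) rfl
    have := h1 h hh hN y hy hy' (s * (h • y).2.1, 0, 0) rfl (by rw [e]; rfl) a ha
    rwa [e, mul_div_cancel_right₀ _ hc] at this
  have h2 := m.two
  convert X0.sub_mem (key (z / (h • a).2.2 + 1 / 2)) (key (z / (h • a).2.2 - 1 / 2)) using 1
  field_simp
  ring

theorem false (m : MH p G T H τ w) (hh : h ∈ H) (hN : h ∉ moN K G) : False := by
  have h2 := m.two
  obtain ⟨i, hi, i1, i2⟩ := m.exists_tor (neg_ne_zero.2 one_ne_zero)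
  simp only [even_two, Even.neg_pow, one_pow, one_mul] at i2
  have hiH := m.le hi
  obtain ⟨c, hc⟩ : ∃ c : K, (h • ((0, c, 0) : K × K × K)).2.2 = 1 := by
    refine Finite.surjective_of_injective (f := fun c : K => (h • ((0, c, 0) : K × K × K)).2.2)
      (fun c c' e => ?_) 1
    have := m.step6 hh hN (y := (0, c, 0) - (0, c', 0)) (by simp) (by
      rw [smul_sub]; exact sub_eq_zero.2 e)
    simpa [sub_eq_zero] using this
  set θ := (i • ((0, 0, 1) : K × K × K)).2.1 with hθ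
  obtain ⟨k, hk⟩ : ∃ k, k = τ (θ / 2 - (h • ((0, c, 0) : K × K × K)).2.1) * h := ⟨_, rfl⟩
  have hkH : k ∈ H := hk ▸ H.mul_mem (m.τ_H _) hh
  have hkN : k ∉ moN K G := fun e =>
    hN (((moN K G).mul_mem_cancel_left (m.T_le (m.τ_mem _)).1).1 (hk ▸ e))
  have hX : ∀ g ∈ H, ∀ v : K × K × K, v.2 = 0 → g • v = v := fun g hg v hv => m.fixX hh hN hg hv
  have k1 : (k • ((0, c, 0) : K × K × K)).2 = (θ / 2, 1) := by
    rw [hk, mul_smul, m.act, hc]
    simp
  have k2 : (i • k • ((0, c, 0) : K × K × K) - k • (0, c, 0)).2 = 0 := by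
    have : k • ((0, c, 0) : K × K × K) =
        ((k • ((0, c, 0) : K × K × K)).1, 0, 0) + (0, θ / 2, 0) + (0, 0, 1) :=
      Prod.ext (by simp) (by simp [k1])
    refine Prod.ext ?_ (by simp [i2])
    rw [this, smul_add, smul_add, hi.2 _ rfl]
    simp only [Prod.snd_sub, Prod.fst_sub, Prod.snd_add, Prod.fst_add, i1, ← hθ]
    field_simp
    simp
    ring
  obtain ⟨j, hj⟩ : ∃ j, j = k⁻¹ * i * k := ⟨_, rfl⟩
  have hjH : j ∈ H := hj ▸ H.mul_mem (H.mul_mem (H.inv_mem hkH) hiH) hkH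
  have ej : ∀ v : K × K × K, k • (j • v - v) = i • k • v - k • v := fun v => by
    rw [smul_sub, hj, mul_smul, mul_smul, smul_inv_smul]
  have hjN : j ∈ moN K G := by
    by_contra hjN
    have e1 := hX _ (H.inv_mem hkH) _ k2
    rw [← ej, inv_smul_smul, ej] at e1
    have e3 : (j • ((0, c, 0) : K × K × K) - (0, c, 0)).2 = (0 : K × K) := by rw [e1, k2]
    have e2 := m.step6 hjH hjN (y := (0, c, 0)) rfl (by
      simpa using congrArg (fun u : K × K => u.2) e3)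
    rw [hX h hh _ e2] at hc
    exact zero_ne_one hc
  have k3 : ∀ v : K × K × K, (j • v - v).2.2 = 0 → (j • v - v).2 = 0 := fun v hv =>
    m.step6 hkH hkN hv (by rw [ej]; simp [i2])
  have k4 : ∀ v : K × K × K, v.2.2 = 0 → (j • v).2 = v.2 := fun v hv =>
    sub_eq_zero.1 (k3 v (by simp [hv, hjN.2.2 v hv]))
  obtain ⟨s, e⟩ := (m.mem _).1 (m.conj_mem hjN (m.τ_mem 1))
  have e' : ∀ v : K × K × K, j • τ 1 • v = τ s • j • v := fun v => by
    rw [← e, mul_smul, mul_smul, inv_smul_smul]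
  obtain rfl : 1 = s := by
    have e1 := congrArg Prod.fst (e' (0, 1, 0))
    rw [show τ 1 • ((0, 1, 0) : K × K × K) = (0, 1, 0) + (2, 0, 0) by simp [m.act], smul_add,
      hX j hjH (2, 0, 0) rfl, m.act, k4 _ rfl] at e1
    symm
    simpa [h2] using e1
  have k5 : ∀ v : K × K × K, (j • v - v).2.2 = 0 := fun v => by
    have e1 := congrArg Prod.fst (k4 (τ 1 • v - v) (by simp [m.act]))
    rw [smul_sub, e'] at e1
    simpa [m.act, sub_eq_zero] using e1
  have e1 := k3 _ (k5 (k⁻¹ • (0, 1, 0)))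
  have e2 := congrArg (·.2.1) (hX k hkH _ e1)
  simp only [ej, smul_inv_smul, e1] at e2
  refine h2 ?_
  simp [i1] at e2
  linear_combination -e2

end MH

end

theorem mod_odd (hp : p ≠ 2) {Γ : Type*} [Group Γ] [Finite Γ] [DistribMulAction Γ (K × K × K)]
    [FaithfulSMul Γ (K × K × K)] {G T : Subgroup Γ} (hT : SylowIn p T G) (τ : K → Γ)
    (hτ : ∀ t (v : K × K × K), τ t • v =
      (v.1 + 2 * t * v.2.1 + t ^ 2 * v.2.2, v.2.1 + t * v.2.2, v.2.2))
    (hTτ : ∀ g, g ∈ T ↔ ∃ t, g = τ t) (hn : ∃ g ∈ G, ∃ t ∈ T, g * t * g⁻¹ ∉ T)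
    (hl : ∀ l : K, l ≠ 0 → ∃ g ∈ G, (∀ d : K, g • ((d, 0, 0) : K × K × K) = (d, 0, 0)) ∧
      (∀ c : K, (g • ((0, c, 0) : K × K × K)).2.1 = l * c) ∧
      ∀ v : K × K × K, (g • v).2.2 = l ^ 2 * v.2.2)
    {w : K} (hw : w ≠ 0) (hfix : ∀ g ∈ G, g • ((w, 0, 0) : K × K × K) = (w, 0, 0)) : False := by
  have m : MO p G T τ w := ⟨fun h2 => hp ((Nat.prime_dvd_prime_iff_eq Fact.out Nat.prime_two).1
    ((CharP.cast_eq_zero_iff K p 2).1 (by exact_mod_cast h2))), hT, hτ, hTτ, hl, hw, hfix⟩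
  obtain ⟨H, ⟨h1, h2, h3⟩, hmin⟩ := exists_min_card
    (𝓒 := {H : Subgroup Γ | moN K G ⊓ moF K Γ ≤ H ∧ H ≤ G ∧ ¬ H ≤ moN K G})
    ⟨G, fun g hg => hg.1.1, le_rfl, fun hle => by
      obtain ⟨g, hg, t, ht, e⟩ := hn
      exact e (m.conj_mem (hle hg) ht)⟩
  obtain ⟨h, hh, hN⟩ := SetLike.not_le_iff_exists.1 h3
  exact MH.false ⟨m, h1, h2, fun D d1 d2 d3 =>
    (Subgroup.eq_of_le_of_card_ge d2 (hmin D ⟨d1, d2.trans h2, d3⟩)).ge⟩ hh hN

end Cfsg.Agent.SP
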