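import Cfsg.Agent.Lib.SP.Mod2
import Cfsg.Agent.Lib.SP.Ess2

/-! S5260, row SP-Str2, part 1: the two abelian radicals, `p = 2`. -/

set_option autoImplicit false
set_option linter.unusedSectionVars false
set_option linter.unusedVariables false

namespace Cfsg.Agent.SP

open Cfsg Cfsg.FusionSystem Cfsg.Agent.H7
open Cfsg.Agent.H9 (U4)

variable {K : Type*} [Field K] [Finite K] [CharP K 2] {F : FusionSystem (⊤ : Subgroup (U4 K))}

/-- A uniform description of `sA` and `sB`. -/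
structure Side (P : Subgroup (U4 K)) (co oc : U4 K → K) (κ : K → K → K)
    (e : P ≃* Multiplicative (K × K × K)) : Prop where
  coord : ∀ u : P, (e u).toAdd = (u.1.x, u.1.y, co u)
  conj : ∀ g, ∀ u ∈ P, (g * u * g⁻¹).x = u.x + κ (oc g) (co u) ∧
    (g * u * g⁻¹).y = u.y + oc g * co u ∧ co (g * u * g⁻¹) = co u
  oc_surj : ∀ s, ∃ g, oc g = s
  memZ : ∀ u ∈ P, u ∈ sZ K ↔ co u = 0
  le : sZ K ≤ P
  surj : ∀ d c : K, d ≠ 0 → c ≠ 0 → ∃ s b, s * b = c ∧ κ s b = d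

theorem sideA : Side (sA K) U4.z U4.i (fun s b => s ^ 2 * b) (coA K) where
  coord u := rfl
  conj g u hu := by
    rw [conj_def, mem_sA.1 hu]
    simp [CharTwo.two_eq_zero]
  oc_surj s := ⟨⟨0, 0, 0, s⟩, rfl⟩
  memZ u hu := ⟨fun h => h.1, fun h => ⟨h, hu⟩⟩
  le := sZ_le_sA
  surj d c hd hc := ⟨d / c, c ^ 2 / d, by field_simp, by field_simp⟩

theorem sideB : Side (sB K) U4.i U4.z (fun s b => s * b ^ 2) (coB K) where
  coord u := rfl
  conj g u hu := by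
    rw [conj_def, mem_sB.1 hu]
    simp [CharTwo.two_eq_zero, CharTwo.sub_eq_add, mul_comm]
  oc_surj s := ⟨⟨0, 0, s, 0⟩, rfl⟩
  memZ u hu := ⟨fun h => h.2, fun h => ⟨hu, h⟩⟩
  le := sZ_le_sB
  surj d c hd hc := ⟨c ^ 2 / d, d / c, by field_simp, by field_simp⟩

namespace Side

variable {P : Subgroup (U4 K)} {co oc : U4 K → K} {κ : K → K → K}
  {e : P ≃* Multiplicative (K × K × K)}

theorem norm (h : Side P co oc κ e) (g : U4 K) : g ∈ Subgroup.normalizer (P : Set (U4 K)) :=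
  have := normal_of_sZ_le h.le
  Subgroup.le_normalizer_of_normal (Subgroup.mem_top g)

theorem exists_eq (h : Side P co oc κ e) (v : K × K × K) :
    ∃ u : P, v = (u.1.x, u.1.y, co u) :=
  ⟨e.symm (Multiplicative.ofAdd v), by rw [← h.coord]; simp⟩

theorem smul_eq (h : Side P co oc κ e) (α : MulAut P) (u : P) : letI := actOf e
    α • ((u.1.x, u.1.y, co u) : K × K × K) = ((α u).1.x, (α u).1.y, co (α u)) := by
  rw [← h.coord, ← h.coord, actOf_smul]

theorem ext (h : Side P co oc κ e) {u v : U4 K} (hu : u ∈ P) (hv : v ∈ P) (h1 : u.x = v.x)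
    (h2 : u.y = v.y) (h3 : co u = co v) : u = v :=
  congrArg Subtype.val (e.injective (Multiplicative.toAdd.injective
    (by rw [h.coord, h.coord]; exact Prod.ext h1 (Prod.ext h2 h3) :
      (e ⟨u, hu⟩).toAdd = (e ⟨v, hv⟩).toAdd)))

theorem m2 (h : Side P co oc κ e) (hF : F.IsSaturated 2) (hE : F.IsEssential 2 P) :
    letI := actOf e
    M2 (F.autGroup P) (autInducedBy ⊤ P) κ
      (fun s => conjAut P (h.norm (h.oc_surj s).choose)) := by
  letI := actOf e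
  have := actOf_faithful e
  have key : ∀ g (v : K × K × K), conjAut P (h.norm g) • v =
      (v.1 + κ (oc g) v.2.2, v.2.1 + oc g * v.2.2, v.2.2) := fun g v => by
    obtain ⟨u, rfl⟩ := h.exists_eq v
    rw [h.smul_eq, coe_conjAut]
    obtain ⟨h1, h2, h3⟩ := h.conj g u u.2
    rw [h1, h2, h3]
  refine ⟨H9.sylowIn_of_isFullyAutomized (hF.isFullyAutomized (isPGroup_top 2)
    hE.isFullyNormalized), h.surj, fun s v => by rw [key, (h.oc_surj s).choose_spec],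
    fun g => ⟨fun hg => ?_, ?_⟩⟩
  · obtain ⟨a, -, hn, rfl⟩ := H9.exists_eq_conjAut hg
    exact ⟨oc a, eq_of_smul_eq_smul fun v : K × K × K => by
      rw [key, key, (h.oc_surj _).choose_spec]⟩
  · rintro ⟨s, rfl⟩
    exact conjAut_mem_autInducedBy (Subgroup.mem_top _) _

theorem hn (hF : F.IsSaturated 2) (hE : F.IsEssential 2 P) : ∃ g ∈ F.autGroup P,
    ∃ t ∈ autInducedBy ⊤ P, g * t * g⁻¹ ∉ autInducedBy ⊤ P := by
  obtain ⟨M, hM⟩ := H9.exists_essCtx (isPGroup_top 2) hF hE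
  obtain ⟨g, hg, hgM⟩ := hM.data.exists_not_mem
  obtain ⟨t, ht, htI⟩ := hM.data.exists_not_mem_I
  exact ⟨g, hg, t, ht, fun h => hgM (hM.data.mem_of_conj_mem ht htI hg (hM.data.le_M h))⟩

theorem dich (h : Side P co oc κ e) (hF : F.IsSaturated 2) (hE : F.IsEssential 2 P)
    {W : Subgroup (U4 K)} (hW : F.IsNormal W) (hZ : W ≤ sZ K) : W ≤ sX K ∨ W ≤ sC K := by
  letI := actOf e
  have := actOf_faithful e
  obtain ⟨g, hg, hv⟩ := (h.m2 hF hE).moves (hn hF hE)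
  have inv := H9.aInv_of_stronglyClosed hW.stronglyClosed (le_top (a := P))
  have key : ∀ w (hw : w ∈ W), ∃ v : K × K × K, v.2.2 = 0 ∧ g • v = (w.x, w.y, 0) := fun w hw => by
    have h1 := inv _ (inv_mem hg) ⟨w, h.le (hZ hw)⟩ hw
    refine ⟨_, ?_, (h.smul_eq g (g⁻¹ ⟨w, h.le (hZ hw)⟩)).trans ?_⟩
    · exact (h.memZ _ (Subtype.property _)).1 (hZ h1)
    · simp [(h.memZ _ (h.le (hZ hw))).1 (hZ hw)]
  refine ((h.m2 hF hE).dich hg hv).imp (fun hd w hw => ?_) fun hd w hw => ?_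
  · obtain ⟨v, h1, h2⟩ := key w hw
    have := hd v h1 (by rw [h2])
    rw [h2] at this
    exact ⟨this, hZ hw⟩
  · obtain ⟨v, h1, h2⟩ := key w hw
    have := hd v h1 (by rw [h2])
    rw [h2] at this
    exact ⟨this, hZ hw⟩

theorem exists_ext (h : Side P co oc κ e) (hF : F.IsSaturated 2) (hE : F.IsEssential 2 P)
    {f : U4 K → U4 K} (hf : F.IsIso P P f) (hZ : ∀ u ∈ sZ K, f u ∈ sZ K) :
    ∃ g, F.IsIso ⊤ ⊤ g ∧ ∀ u ∈ P, g u = f u := by
  letI := actOf e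
  have := actOf_faithful e
  obtain ⟨M, hM⟩ := H9.exists_essCtx (isPGroup_top 2) hF hE
  obtain ⟨g, hg, e1⟩ := hM.exists_ext hf.toMulEquiv_mem_autGroup (R := ⊤) le_rfl
    (fun a _ => h.norm a) fun a ha => (h.m2 hF hE).conj_mem hf.toMulEquiv_mem_autGroup
      (fun v hv => by
        obtain ⟨u, rfl⟩ := h.exists_eq v
        rw [h.smul_eq]
        exact (h.memZ _ (Subtype.property _)).1 (hZ _ ((h.memZ _ u.2).2 hv)))
      (conjAut_mem_autInducedBy ha _)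
  rw [sup_top_eq] at hg
  exact ⟨g, hg.isIso_top, fun u hu => e1 ⟨u, hu⟩⟩

theorem str (h : Side P co oc κ e) (hF : F.IsSaturated 2) (hE : F.IsEssential 2 P)
    {W : Subgroup (U4 K)} (hW : F.IsNormal W) (hW1 : W ≠ ⊥) (hX : W ≤ sX K) :
    (∀ f, F.IsIso P P f → ∀ u ∈ sX K, f u ∈ sX K) ∧ ∃ ε : K →+ K,
      (∀ a b c d : K, a * d - b * c = 1 → ∃ f, F.IsIso P P f ∧ (∀ u ∈ sX K, f u = u) ∧
        ∀ u ∈ P, (f u).y + ε (co (f u)) = a * (u.y + ε (co u)) + b * co u ∧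
          co (f u) = c * (u.y + ε (co u)) + d * co u) ∧
      ∀ f, F.IsIso P P f → (∀ u ∈ sZ K, f u ∈ sZ K) ∨
        ∃ s : K, ∀ u ∈ sZ K, (f u).y + ε (co (f u)) = s * co (f u) := by
  letI := actOf e
  have := actOf_faithful e
  have inv := H9.aInv_of_stronglyClosed hW.stronglyClosed (le_top (a := P))
  have hXP : sX K ≤ P := sX_le_sZ.trans h.le
  have eX : ∀ (α : MulAut P) u (hu : u ∈ sX K), α • ((u.x, 0, 0) : K × K × K) =
      ((α ⟨u, hXP hu⟩).1.x, (α ⟨u, hXP hu⟩).1.y, co (α ⟨u, hXP hu⟩)) := fun α u hu => by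
    rw [← h.smul_eq]
    simp only [hu.1, (h.memZ _ (hXP hu)).1 (sX_le_sZ hu)]
  obtain ⟨⟨w, hw⟩, hw1⟩ := (Subgroup.ne_bot_iff_exists_ne_one).1 hW1
  obtain ⟨s1, ε, s2, s3⟩ := (h.m2 hF hE).str (hn hF hE) (w := w.x) (fun h0 => hw1 (Subtype.ext
    (U4.ext h0 (hX hw).1 (hX hw).2.1 (hX hw).2.2))) (fun g hg => by
      rw [eX g w (hX hw)]
      exact (h.memZ _ (Subtype.property _)).1 (sX_le_sZ (hX (inv g hg ⟨w, _⟩ hw))))
  refine ⟨fun f hf u hu => ?_, ε, fun a b c d hd => ?_, fun f hf => ?_⟩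
  · have := s1 _ hf.toMulEquiv_mem_autGroup u.x
    rw [eX _ u hu, hf.coe_toMulEquiv] at this
    exact ⟨congrArg Prod.fst this, (h.memZ _ (hf.mapsTo u (hXP hu))).2 (congrArg Prod.snd this)⟩
  · obtain ⟨r, hr, r1, r2⟩ := s2 a b c d hd
    refine ⟨equivFun r, (mem_autGroup_iff le_top).1 hr, fun u hu => ?_, fun u hu => ?_⟩
    · have := r1 u.x
      rw [eX _ u hu] at this
      rw [equivFun_of_mem r (hXP hu)]
      simp only [Prod.mk.injEq] at this
      exact h.ext (Subtype.property _) (hXP hu) this.1 (this.2.1.trans hu.1.symm)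
        (this.2.2.trans ((h.memZ _ (hXP hu)).1 (sX_le_sZ hu)).symm)
    · have := r2 (u.x, u.y, co u)
      rw [h.smul_eq r ⟨u, hu⟩] at this
      rw [equivFun_of_mem r hu]
      exact this
  · refine (s3 _ hf.toMulEquiv_mem_autGroup).imp (fun h1 u hu => ?_) fun ⟨s, h1⟩ =>
      ⟨s, fun u hu => ?_⟩
    · have := h1 (u.x, u.y, co u) ((h.memZ _ (h.le hu)).1 hu)
      rw [h.smul_eq _ ⟨u, h.le hu⟩, hf.coe_toMulEquiv] at this
      exact (h.memZ _ (hf.mapsTo u (h.le hu))).2 this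
    · have := h1 (u.x, u.y, co u) ((h.memZ _ (h.le hu)).1 hu)
      rw [h.smul_eq _ ⟨u, h.le hu⟩, hf.coe_toMulEquiv] at this
      exact this

end Side

end Cfsg.Agent.SP
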