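import Cfsg.Agent.Lib.SP.Side

/-! S5260, row SP-Str2 (notes/SP.md). -/

set_option autoImplicit false
set_option linter.unusedSectionVars false
set_option linter.unusedVariables false

namespace Cfsg.Agent.SP

open Cfsg Cfsg.FusionSystem Cfsg.Agent.H7
open Cfsg.Agent.H9 (U4)

variable {K : Type*} [Field K] [Finite K] [CharP K 2] {F : FusionSystem (⊤ : Subgroup (U4 K))}

theorem dich_two (hF : F.IsSaturated 2) (hc : ¬ Con F) {W : Subgroup (U4 K)} (hW : F.IsNormal W)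
    (hZ : W ≤ sZ K) : W ≤ sX K ∨ W ≤ sC K :=
  sideA.dich hF (ess_of_not_con hF hc).1 hW hZ

theorem aut_pre {f : U4 K → U4 K} (hf : F.IsIso ⊤ ⊤ f) (hA : F.IsIso (sA K) (sA K) f)
    (hB : F.IsIso (sB K) (sB K) f) (hX : ∀ u ∈ sX K, f u ∈ sX K) : ∃ (α : K → K) (b : K),
      b ≠ 0 ∧ (∀ s t, α (s + t) = α s + α t) ∧ (∀ s, α s = 0 → s = 0) ∧
      (∀ s t, α (s * t) * α 1 = α s * α t) ∧ (∀ u, (f u).i = α u.i) ∧
      (∀ u, α 1 * (f u).z = b * α u.z) ∧ (∀ u ∈ sZ K, (f u).y = b * α u.y) ∧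
      ∀ u ∈ sX K, (f u).x = α 1 * b * α u.x := by
  have two : (2 : K) = 0 := CharTwo.two_eq_zero
  have hm : ∀ u v, f (u * v) = f u * f v := fun u v => hf.mor.map_mul trivial trivial
  have mA : ∀ x y z : K, (f ⟨x, y, z, 0⟩).i = 0 := fun x y z => hA.mapsTo _ (mem_sA.2 rfl)
  have mB : ∀ x y i : K, (f ⟨x, y, 0, i⟩).z = 0 := fun x y i => hB.mapsTo _ (mem_sB.2 rfl)
  have mX : ∀ x : K, (f ⟨x, 0, 0, 0⟩).y = 0 := fun x => (hX _ ⟨rfl, rfl, rfl⟩).1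
  set α : K → K := fun s => (f ⟨0, 0, 0, s⟩).i with hα
  set β : K → K := fun s => (f ⟨0, 0, s, 0⟩).z with hβ
  set γ : K → K := fun s => (f ⟨0, s, 0, 0⟩).y with hγ
  set μ : K → K := fun s => (f ⟨0, s, 0, 0⟩).x with hμ
  set δ : K → K := fun s => (f ⟨s, 0, 0, 0⟩).x with hδ
  have hi : ∀ u, (f u).i = α u.i := fun u => by
    rw [show u = ⟨u.x, u.y, u.z, 0⟩ * ⟨0, 0, 0, u.i⟩ by simp [U4.mul_def], hm, mul_i, mA]
    simp [U4.mul_def, hα]
  have hz : ∀ u, (f u).z = β u.z := fun u => by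
    rw [show u = ⟨0, 0, u.z, 0⟩ * ⟨u.x, u.y, 0, u.i⟩ by simp [U4.mul_def], hm, mul_z, mB]
    simp [U4.mul_def, hβ]
  have hZ : ∀ d c : K, (f ⟨d, c, 0, 0⟩).y = γ c ∧ (f ⟨d, c, 0, 0⟩).x = δ d + μ c := fun d c => by
    rw [show (⟨d, c, 0, 0⟩ : U4 K) = ⟨d, 0, 0, 0⟩ * ⟨0, c, 0, 0⟩ by simp [U4.mul_def], hm, mul_y,
      mul_x, mX, mA]
    simp [hγ, hδ, hμ]
  have a1 : ∀ s t, α (s + t) = α s + α t := fun s t => by
    simpa [U4.mul_def] using congrArg U4.i (hm ⟨0, 0, 0, s⟩ ⟨0, 0, 0, t⟩)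
  have a2 : ∀ s, α s = 0 → s = 0 := fun s h =>
    (hA.mem_iff hf.mor le_top (x := ⟨0, 0, 0, s⟩) trivial).1 h
  have b2 : β 1 ≠ 0 := fun h =>
    one_ne_zero ((hB.mem_iff hf.mor le_top (x := ⟨0, 0, 1, 0⟩) trivial).1 h)
  have m1 : ∀ s t, μ (s + t) = μ s + μ t := fun s t => by
    have := congrArg U4.x (hm ⟨0, s, 0, 0⟩ ⟨0, t, 0, 0⟩)
    rw [mul_x (f _), mA] at this
    simpa [U4.mul_def] using this
  have cm : ∀ s b, γ (s * b) = α s * β b ∧ δ (s ^ 2 * b) + μ (s * b) = α s ^ 2 * β b := fun s b => by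
    have h := hf.mor.map_conj (a := ⟨0, 0, 0, s⟩) (x := ⟨0, 0, b, 0⟩) trivial trivial
    rw [show (⟨0, 0, 0, s⟩ * ⟨0, 0, b, 0⟩ * (⟨0, 0, 0, s⟩ : U4 K)⁻¹) =
      ⟨s ^ 2 * b, s * b, 0, 0⟩ * ⟨0, 0, b, 0⟩ by rw [conj_def]; simp [U4.mul_def], hm] at h
    have h1 := congrArg U4.y h
    have h2 := congrArg U4.x h
    rw [conj_y, mul_y, mA, mA, (hZ _ _).1] at h1
    rw [conj_x, mul_x, mA, mA, (hZ _ _).2, two] at h2
    exact ⟨by linear_combination h1, by linear_combination h2⟩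
  have a0 : α 1 ≠ 0 := fun h => one_ne_zero (a2 1 h)
  have g1 : ∀ s, γ s = β 1 * α s := fun s => by rw [mul_comm, ← (cm s 1).1, mul_one]
  have g2 : ∀ s, α 1 * β s = β 1 * α s := fun s => by rw [← g1, ← (cm 1 s).1, one_mul]
  have g3 : ∀ s t, α (s * t) * α 1 = α s * α t := fun s t => mul_left_cancel₀ b2 (by
    linear_combination (α 1) * ((cm s t).1 - g1 (s * t)) + α s * g2 t)
  have d1 : ∀ t, δ t + μ t = α 1 * β 1 * α t := fun t => by
    have := (cm 1 t).2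
    rw [one_pow, one_mul] at this
    linear_combination this + α 1 * g2 t
  have d2 : ∀ t, δ t = α 1 * β 1 * α t := by
    by_cases hK : ∀ x : K, x = 0 ∨ x = 1
    · intro t
      rcases hK t with rfl | rfl
      · have h1 : δ 0 = 0 := congrArg U4.x hf.mor.map_one
        have h2 : α 0 = 0 := congrArg U4.i hf.mor.map_one
        rw [h1, h2, mul_zero]
      · rw [(hK _).resolve_left a0, (hK _).resolve_left b2, mul_one, mul_one]
        refine (hK _).resolve_left fun h => ?_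
        have := (hf.mor.eq_one_iff (x := ⟨1, 0, 0, 0⟩) trivial).1
          (U4.ext h (mX 1) (mB 1 0 0) (mA 1 0 0))
        exact one_ne_zero (congrArg U4.x this)
    · push Not at hK
      obtain ⟨w, h0, h1⟩ := hK
      have hw : w ^ 2 + w ≠ 0 := by
        rw [show w ^ 2 + w = w * (w - 1) by linear_combination w * two]
        exact mul_ne_zero h0 (sub_ne_zero.2 h1)
      intro t
      obtain ⟨b, rfl⟩ : ∃ b, t = w ^ 2 * b + w * b := ⟨t / (w ^ 2 + w), by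
        rw [← add_mul, mul_div_cancel₀ _ hw]⟩
      have e1 := (cm w b).2
      have e2 := d1 (w ^ 2 * b)
      have e3 := g3 (w * w) b
      rw [← sq] at e3
      have e4 := g3 w w
      rw [← sq] at e4
      have : μ (w ^ 2 * b) = μ (w * b) := mul_left_cancel₀ a0 (by
        linear_combination α 1 * (e2 - e1) + α 1 * β 1 * e3 + β 1 * α b * e4 - α w ^ 2 * g2 b)
      rw [← d1, m1, this]
      linear_combination (-μ (w * b)) * two
  refine ⟨α, β 1, b2, a1, a2, g3, hi, fun u => by rw [hz, g2], fun u hu => ?_, fun u hu => ?_⟩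
  · rw [show u = ⟨u.x, u.y, 0, 0⟩ from U4.ext rfl rfl hu.1 hu.2, (hZ _ _).1, g1]
  · rw [show u = ⟨u.x, 0, 0, 0⟩ from U4.ext rfl hu.1 hu.2.1 hu.2.2, ← d2]

theorem sq_of_ne (cube : ∀ l : K, l ≠ 0 → l ^ 3 = 1) {σ : K → K} (h1 : σ 1 = 1)
    (ha : ∀ s t, σ (s + t) = σ s + σ t) (h0 : ∀ s, σ s = 0 → s = 0) {w : K} (hw : σ w ≠ w)
    (x : K) : σ x = x ^ 2 := by
  have two : (2 : K) = 0 := CharTwo.two_eq_zero
  have z : σ 0 = 0 := by simpa using ha 0 0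
  have q : ∀ y : K, y ≠ 0 → y ≠ 1 → y ^ 2 + y + 1 = 0 := fun y a b =>
    (mul_eq_zero.1 (by linear_combination cube y a : (y - 1) * (y ^ 2 + y + 1) = 0)).resolve_left
      (sub_ne_zero.2 b)
  have w0 : w ≠ 0 := by rintro rfl; exact hw z
  have w1 : w ≠ 1 := by rintro rfl; exact hw h1
  have r : ∀ y : K, y ≠ 0 → y ≠ 1 → y = w ∨ y = w + 1 := fun y a b =>
    (mul_eq_zero.1 (by linear_combination q y a b - q w w0 w1 + (w ^ 2 + w - y * w - y) * two :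
      (y - w) * (y - (w + 1)) = 0)).imp sub_eq_zero.1 sub_eq_zero.1
  have e : σ w = w + 1 := (r _ (fun h => w0 (h0 _ h)) fun h => w1 (by
    have := h0 (w + 1) (by rw [ha, h, h1]; linear_combination two)
    linear_combination this - two)).resolve_left hw
  by_cases a : x = 0
  · rw [a, z]; simp
  by_cases b : x = 1
  · rw [b, h1]; simp
  rcases r x a b with rfl | rfl
  · rw [e]; linear_combination -q x a b + (x + 1) * two
  · rw [ha, e, h1]; linear_combination -q w w0 w1 + two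

theorem aut_lin (hF : F.IsSaturated 2) (cube : ∀ l : K, l ≠ 0 → l ^ 3 = 1) {f : U4 K → U4 K}
    (hf : F.IsIso ⊤ ⊤ f) (hX : ∀ u ∈ sX K, f u ∈ sX K) : ∃ a b : K, a ≠ 0 ∧ b ≠ 0 ∧
      (∀ u, (f u).i = a * u.i) ∧ (∀ u, (f u).z = b * u.z) ∧ (∀ u ∈ sZ K, (f u).y = a * b * u.y) ∧
      ∀ u ∈ sX K, (f u).x = a ^ 2 * b * u.x := by
  obtain ⟨α, b, hb, a1, a2, a3, hi, hz, hy, hx⟩ :=
    aut_pre hf (aut_two hF hf).1 (aut_two hF hf).2 hX
  have a0 : α 1 ≠ 0 := fun h => one_ne_zero (a2 1 h)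
  have lin : ∀ s, α s = α 1 * s := by
    by_contra hn
    push Not at hn
    obtain ⟨w, hw⟩ := hn
    have sq : ∀ x, α x = α 1 * x ^ 2 := fun x => by
      rw [← sq_of_ne cube (σ := fun s => α s / α 1) (div_self a0) (fun s t => by rw [a1, add_div])
        (fun s h => a2 s (by simpa [a0] using h)) (w := w)
        (fun h => hw (by rw [mul_comm, ← div_eq_iff a0]; exact h)) x]
      field_simp
    have fix : ∀ u ∈ sX K, f u = u := fun u hu => by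
      obtain ⟨m, hm, k, hk⟩ := exists_coprime_pow_pElt (p := 2) (isOfFinOrder_of_finite hf.toMulEquiv)
      obtain ⟨g, -, hg⟩ := mem_inn_iff.1 (H9.mem_inn_of_pElt (isPGroup_top 2) hF
        (pow_mem hf.toMulEquiv_mem_autGroup m) hk)
      let H := MulAction.stabilizer (MulAut (⊤ : Subgroup (U4 K))) (⟨u, trivial⟩ : (⊤ : Subgroup _))
      have h1 : hf.toMulEquiv ^ m ∈ H := Subtype.ext ((hg ⟨u, trivial⟩).trans (by
        rw [conj_def]; ext <;> simp [hu.1, hu.2.1, hu.2.2]))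
      have h2 : hf.toMulEquiv ^ 2 ∈ H := Subtype.ext (by
        show f (f u) = u
        have h3 := hX _ (hX u hu)
        refine U4.ext ?_ (h3.1.trans hu.1.symm) (h3.2.1.trans hu.2.1.symm)
          (h3.2.2.trans hu.2.2.symm)
        rw [hx _ (hX u hu), sq (f u).x, hx u hu, sq u.x]
        by_cases h0 : u.x = 0
        · rw [h0]; ring
        · linear_combination (α 1 ^ 3 + 1) * b ^ 3 * u.x ^ 4 * cube _ a0 + u.x ^ 4 * cube _ hb +
            u.x * cube _ h0)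
      obtain ⟨j, rfl⟩ := Nat.coprime_two_right.1 hm
      rw [pow_succ, pow_mul] at h1
      exact congrArg Subtype.val ((H.mul_mem_cancel_left (pow_mem h2 j)).1 h1)
    have e1 := hx ⟨w, 0, 0, 0⟩ ⟨rfl, rfl, rfl⟩
    have e2 := hx ⟨1, 0, 0, 0⟩ ⟨rfl, rfl, rfl⟩
    rw [fix _ ⟨rfl, rfl, rfl⟩] at e1 e2
    simp only at e1 e2
    exact hw (by linear_combination α w * e2 - α 1 * e1)
  refine ⟨α 1, b, a0, hb, fun u => by rw [hi, lin], fun u => mul_left_cancel₀ a0 ?_,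
    fun u hu => ?_, fun u hu => ?_⟩
  · rw [hz, lin]; ring
  · rw [hy u hu, lin]; ring
  · rw [hx u hu, lin u.x]; ring

namespace Side

variable {P : Subgroup (U4 K)} {co oc : U4 K → K} {κ : K → K → K}
  {e : P ≃* Multiplicative (K × K × K)} {ε : K →+ K}

theorem fixL (h : Side P co oc κ e)
    (up : ∀ a b c d : K, a * d - b * c = 1 → ∃ f, F.IsIso P P f ∧ (∀ u ∈ sX K, f u = u) ∧
      ∀ u ∈ P, (f u).y + ε (co (f u)) = a * (u.y + ε (co u)) + b * co u ∧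
        co (f u) = c * (u.y + ε (co u)) + d * co u)
    (dn : ∀ f, F.IsIso P P f → (∀ u ∈ sZ K, f u ∈ sZ K) ∨
      ∃ s : K, ∀ u ∈ sZ K, (f u).y + ε (co (f u)) = s * co (f u))
    {f : U4 K → U4 K} (hf : F.IsIso P P f) {b : K} (hb : b ≠ 0) (hz : ∀ u, co (f u) = b * co u) :
    ∃ t, ∀ v ∈ P, v.y + ε (co v) = 0 → (f v).y + ε (co (f v)) = t * co (f v) := by
  obtain ⟨r, hr, -, r2⟩ := up 0 1 1 0 (by simp [CharTwo.neg_eq])
  rcases dn _ (hf.comp' hr) with h1 | ⟨t, h1⟩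
  · exfalso
    have hu : (⟨0, 1, 0, 0⟩ : U4 K) ∈ sZ K := ⟨rfl, rfl⟩
    have h2 := (h.memZ _ (h.le (h1 _ hu))).1 (h1 _ hu)
    rw [hz, (r2 _ (h.le hu)).2, (h.memZ _ (h.le hu)).1 hu] at h2
    simp [hb] at h2
  · refine ⟨t, fun v hv h0 => ?_⟩
    obtain ⟨u, hu, rfl⟩ := hr.surj v hv
    rw [(r2 u hu).1, zero_mul, zero_add, one_mul] at h0
    exact h1 u ((h.memZ u hu).2 h0)

theorem dn (h : Side P co oc κ e) (hF : F.IsSaturated 2) (hE : F.IsEssential 2 P)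
    (up : ∀ a b c d : K, a * d - b * c = 1 → ∃ f, F.IsIso P P f ∧ (∀ u ∈ sX K, f u = u) ∧
      ∀ u ∈ P, (f u).y + ε (co (f u)) = a * (u.y + ε (co u)) + b * co u ∧
        co (f u) = c * (u.y + ε (co u)) + d * co u)
    (dn : ∀ f, F.IsIso P P f → (∀ u ∈ sZ K, f u ∈ sZ K) ∨
      ∃ s : K, ∀ u ∈ sZ K, (f u).y + ε (co (f u)) = s * co (f u))
    (H : ∀ g, F.IsIso ⊤ ⊤ g → (∀ u ∈ sX K, g u = u) → ∃ a b d : K, a * d = 1 ∧ ∀ u ∈ P,
      (g u).y + ε (co (g u)) = a * (u.y + ε (co u)) + b * co u ∧ co (g u) = d * co u)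
    {f : U4 K → U4 K} (hf : F.IsIso P P f) (hX : ∀ u ∈ sX K, f u = u) :
    ∃ a b c d : K, a * d - b * c = 1 ∧ ∀ u ∈ P,
      (f u).y + ε (co (f u)) = a * (u.y + ε (co u)) + b * co u ∧
        co (f u) = c * (u.y + ε (co u)) + d * co u := by
  have two : (2 : K) = 0 := CharTwo.two_eq_zero
  have key : ∀ f, F.IsIso P P f → (∀ u ∈ sX K, f u = u) → (∀ u ∈ sZ K, f u ∈ sZ K) →
      ∃ a b d : K, a * d = 1 ∧ ∀ u ∈ P,
      (f u).y + ε (co (f u)) = a * (u.y + ε (co u)) + b * co u ∧ co (f u) = d * co u := by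
    intro f hf hX hZ
    obtain ⟨g, hg, e1⟩ := h.exists_ext hF hE hf hZ
    obtain ⟨a, b, d, h1, h2⟩ := H g hg fun u hu => (e1 u (h.le (sX_le_sZ hu))).trans (hX u hu)
    exact ⟨a, b, d, h1, fun u hu => e1 u hu ▸ h2 u hu⟩
  rcases dn f hf with h1 | ⟨t, h1⟩
  · obtain ⟨a, b, d, h2, h3⟩ := key f hf hX h1
    exact ⟨a, b, 0, d, by simpa using h2, fun u hu => by simpa using h3 u hu⟩
  · obtain ⟨r, hr, r1, r2⟩ := up 0 1 1 t (by simp [CharTwo.neg_eq])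
    obtain ⟨a, b, d, h2, h3⟩ := key _ (hr.comp' hf) (fun u hu => by rw [hX u hu, r1 u hu])
      fun u hu => (h.memZ _ (hr.mapsTo _ (hf.mapsTo _ (h.le hu)))).2 (by
        rw [(r2 _ (hf.mapsTo _ (h.le hu))).2, h1 u hu]
        linear_combination t * co (f u) * two)
    refine ⟨t * a, t * b + d, a, b, by linear_combination -h2 - two, fun u hu => ?_⟩
    obtain ⟨h4, h5⟩ := h3 u hu
    obtain ⟨h6, h7⟩ := r2 _ (hf.mapsTo u hu)
    have h8 : co (f u) = a * (u.y + ε (co u)) + b * co u := by linear_combination h4 - h6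
    exact ⟨by linear_combination h5 - h7 - t * h8 - (t * (a * (u.y + ε (co u)) + b * co u)) * two,
      h8⟩

end Side

theorem yt_A (e1 e2 : K →+ K) {u : U4 K} (hu : u ∈ sA K) : yt e1 e2 u = u.y + e1 u.z := by
  rw [yt, mem_sA.1 hu, map_zero, add_zero]

theorem yt_B (e1 e2 : K →+ K) {u : U4 K} (hu : u ∈ sB K) : yt e1 e2 u = u.y + e2 u.i := by
  rw [yt, mem_sB.1 hu, map_zero, add_zero]

theorem yt_conj (e1 e2 : K →+ K) (g u : U4 K) :
    yt e1 e2 (g * u * g⁻¹) = yt e1 e2 u + g.i * u.z - u.i * g.z := by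
  rw [yt, yt, conj_y, conj_z, conj_i]; ring

theorem exists_str2 (hF : F.IsSaturated 2) (hc : ¬ Con F) {W : Subgroup (U4 K)}
    (hW : F.IsNormal W) (hW1 : W ≠ ⊥) (hX : W ≤ sX K) :
    F.IsNormal (sX K) ∧ ∃ e1 e2, Str2 F e1 e2 := by
  have two : (2 : K) = 0 := CharTwo.two_eq_zero
  obtain ⟨hA, hB⟩ := ess_of_not_con hF hc
  obtain ⟨iA, e1, upA, dnA⟩ := sideA.str hF hA hW hW1 hX
  obtain ⟨iB, e2, upB, dnB⟩ := sideB.str hF hB hW hW1 hX
  have iS : ∀ f, F.IsIso ⊤ ⊤ f → ∀ u ∈ sX K, f u ∈ sX K := fun f hf => iA f (aut_two hF hf).1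
  have tor : ∀ l : K, l ≠ 0 → ∃ g, F.IsIso ⊤ ⊤ g ∧ (∀ u ∈ sX K, g u = u) ∧
      (g ⟨0, 1, 0, 0⟩).y = l ∧ (g ⟨0, 0, 1, 0⟩).z = l⁻¹ := fun l hl => by
    obtain ⟨f, hf, f1, f2⟩ := upA l 0 0 l⁻¹ (by simp [hl])
    obtain ⟨g, hg, e⟩ := sideA.exists_ext hF hA hf fun u hu =>
      ⟨by rw [(f2 u (sZ_le_sA hu)).2, hu.1]; simp, hf.mapsTo u (sZ_le_sA hu)⟩
    refine ⟨g, hg, fun u hu => (e u hu.2.2).trans (f1 u hu), ?_, ?_⟩
    · obtain ⟨h1, h2⟩ := f2 ⟨0, 1, 0, 0⟩ rfl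
      rw [h2] at h1
      rw [e _ (mem_sA.2 rfl)]
      simpa using h1
    · rw [e _ (mem_sA.2 rfl), (f2 ⟨0, 0, 1, 0⟩ rfl).2]; simp
  have cube : ∀ l : K, l ≠ 0 → l ^ 3 = 1 := fun l hl => by
    obtain ⟨g, hg, g1, g2, g3⟩ := tor l hl
    obtain ⟨α, b, hb, -, a2, -, -, hz, hy, hx⟩ :=
      aut_pre hg (aut_two hF hg).1 (aut_two hF hg).2 (iS g hg)
    have h1 := hz ⟨0, 0, 1, 0⟩
    have h2 := hy ⟨0, 1, 0, 0⟩ ⟨rfl, rfl⟩
    have h3 := hx ⟨1, 0, 0, 0⟩ ⟨rfl, rfl, rfl⟩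
    rw [g1 _ ⟨rfl, rfl, rfl⟩] at h3
    rw [g3, mul_comm b] at h1
    rw [g2, ← mul_left_cancel₀ (fun h => one_ne_zero (a2 1 h)) h1] at h2
    rw [← mul_left_cancel₀ (fun h => one_ne_zero (a2 1 h)) h1] at h3
    simp only at h2 h3
    field_simp at h2 h3
    rw [← h2] at h3
    exact mul_left_cancel₀ hl (by linear_combination -h3)
  have dnS : ∀ f, F.IsIso ⊤ ⊤ f → ∃ (s : U4 K) (a b : K), a ≠ 0 ∧ b ≠ 0 ∧
      (∀ u ∈ sX K, (f u).x = a ^ 2 * b * u.x) ∧ Diag e1 e2 (fun u => s * f u * s⁻¹) a b := by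
    intro f hf
    obtain ⟨a, b, ha, hb, hi, hz, hy, hx⟩ := aut_lin hF cube hf (iS f hf)
    obtain ⟨hfA, hfB⟩ := aut_two hF hf
    obtain ⟨t, ht⟩ := sideA.fixL upA dnA hfA hb hz
    obtain ⟨t', ht'⟩ := sideB.fixL upB dnB hfB ha hi
    refine ⟨⟨0, 0, t', t⟩, a, b, ha, hb, hx, fun u => ⟨by rw [conj_i, hi], by rw [conj_z, hz], ?_⟩⟩
    obtain ⟨c, hc, hu, hcy⟩ : ∃ c ∈ sZ K, u = c * (⟨0, e2 u.i, 0, u.i⟩ * ⟨0, e1 u.z, u.z, 0⟩) ∧
        c.y = yt e1 e2 u + u.i * u.z :=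
      ⟨u * (⟨0, e2 u.i, 0, u.i⟩ * ⟨0, e1 u.z, u.z, 0⟩ : U4 K)⁻¹,
        ⟨by simp [mul_z, inv_z], by simp [mul_i, inv_i]⟩,
        (inv_mul_cancel_right _ _).symm, by
          simp only [mul_y, inv_y, mul_i, mul_z, inv_z, yt]
          linear_combination (-e1 u.z - e2 u.i - u.i * u.z) * two⟩
    have h1 := ht ⟨0, e1 u.z, u.z, 0⟩ rfl (by linear_combination e1 u.z * two)
    have h2 := ht' ⟨0, e2 u.i, 0, u.i⟩ rfl (by linear_combination e2 u.i * two)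
    rw [← yt_A e1 e2 (hfA.mapsTo _ (mem_sA.2 rfl)), hz] at h1
    rw [← yt_B e1 e2 (hfB.mapsTo _ (mem_sB.2 rfl)), hi] at h2
    have h3 : yt e1 e2 (f c) = a * b * c.y := by
      rw [yt_A e1 e2 (hfA.mapsTo _ (sZ_le_sA hc)), hz, hc.1, hy c hc]; simp
    have h4 : yt e1 e2 (f u) = a * b * c.y + (t' * (a * u.i) + t * (b * u.z) +
        a * u.i * (b * u.z)) := by
      conv_lhs => rw [hu, hf.mor.map_mul trivial trivial, hf.mor.map_mul trivial trivial, yt_mul,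
        yt_mul, h1, h2, h3, hi c, hc.2, hi, hz]
      simp
    rw [yt_conj, h4, hcy, hi, hz]
    linear_combination (a * b * u.i * u.z + t * b * u.z) * two
  have fx : ∀ {f : U4 K → U4 K} {a b : K}, (∀ u ∈ sX K, f u = u) →
      (∀ u ∈ sX K, (f u).x = a ^ 2 * b * u.x) → a ^ 2 * b = 1 := fun {f a b} h1 h2 => by
    have := h2 ⟨1, 0, 0, 0⟩ ⟨rfl, rfl, rfl⟩
    rw [h1 _ ⟨rfl, rfl, rfl⟩] at this
    simpa using this.symm
  refine ⟨hF.isNormal_of_essential (isPGroup_top 2) fun P hP => ?_, e1, e2, cube,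
    fun a b c d hd => ?_, fun a b c d hd => ?_, fun l hl => ?_, fun f hf hX => ?_,
    fun f hf hX => ?_, dnS⟩
  · rcases hP with rfl | hP
    · exact ⟨le_top, iS⟩
    · rcases ess_two hF hP with rfl | rfl
      · exact ⟨sX_le_sZ.trans sZ_le_sA, iA⟩
      · exact ⟨sX_le_sZ.trans sZ_le_sB, iB⟩
  · obtain ⟨f, hf, f1, f2⟩ := upA a b c d hd
    exact ⟨f, hf, f1, fun u hu => by
      rw [yt_A e1 e2 hu, yt_A e1 e2 (hf.mapsTo u hu)]; exact f2 u hu⟩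
  · obtain ⟨f, hf, f1, f2⟩ := upB a b c d hd
    exact ⟨f, hf, f1, fun u hu => by
      rw [yt_B e1 e2 hu, yt_B e1 e2 (hf.mapsTo u hu)]; exact f2 u hu⟩
  · obtain ⟨g, hg, g1, -, g3⟩ := tor l⁻¹ (inv_ne_zero hl)
    obtain ⟨s, a, b, ha, hb, hx, hd⟩ := dnS g hg
    have h1 := (hd ⟨0, 0, 1, 0⟩).2.1
    simp only [conj_z, g3, inv_inv, mul_one] at h1
    subst h1
    obtain rfl : a = l := mul_left_cancel₀ (pow_ne_zero 2 ha) (by
      linear_combination cube a ha - fx g1 hx)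
    refine ⟨_, ((isMor_conj F le_rfl (Subgroup.mem_top s)).comp' hg.mor
      fun _ _ => trivial).isIso_top, fun u hu => ?_, hd⟩
    rw [g1 u hu, conj_def]
    ext <;> simp [hu.1, hu.2.1, hu.2.2]
  · obtain ⟨a, b, c, d, h1, h2⟩ := sideA.dn hF hA upA dnA (fun g hg g1 => by
      obtain ⟨s, a, b, ha, hb, hx, hd⟩ := dnS g hg
      refine ⟨a * b, s.i * b, b, ?_, fun u hu => ?_⟩
      · linear_combination b ^ 3 * cube a ha + cube b hb - a * b ^ 2 * fx g1 hx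
      · obtain ⟨h1, h2, h3⟩ := hd u
        rw [conj_z] at h2
        rw [yt_conj, mem_sA.1 ((aut_two hF hg).1.mapsTo u hu),
          yt_A e1 e2 ((aut_two hF hg).1.mapsTo u hu), yt_A e1 e2 hu] at h3
        exact ⟨by linear_combination h3 - s.i * h2 - s.i * b * u.z * two, h2⟩) hf hX
    exact ⟨a, b, c, d, h1, fun u hu => by
      rw [yt_A e1 e2 hu, yt_A e1 e2 (hf.mapsTo u hu)]; exact h2 u hu⟩
  · obtain ⟨a, b, c, d, h1, h2⟩ := sideB.dn hF hB upB dnB (fun g hg g1 => by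
      obtain ⟨s, a, b, ha, hb, hx, hd⟩ := dnS g hg
      refine ⟨a * b, s.z * a, a, by linear_combination fx g1 hx, fun u hu => ?_⟩
      obtain ⟨h1, h2, h3⟩ := hd u
      rw [conj_i] at h1
      rw [yt_conj, mem_sB.1 ((aut_two hF hg).2.mapsTo u hu),
        yt_B e1 e2 ((aut_two hF hg).2.mapsTo u hu), yt_B e1 e2 hu] at h3
      exact ⟨by linear_combination h3 + s.z * h1, h1⟩) hf hX
    exact ⟨a, b, c, d, h1, fun u hu => by
      rw [yt_B e1 e2 hu, yt_B e1 e2 (hf.mapsTo u hu)]; exact h2 u hu⟩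

end Cfsg.Agent.SP
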